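import Cfsg.Agent.Lib.KnownB.F4Inv.Elements
import Cfsg.Agent.Lib.KnownB.F4Inv.Identities

/-!
The torus of ²F₄(q) acting on the one-parameter families of the positive part: weights and their
arithmetic modulo `q - 1 = 2θ² - 1`.
-/

set_option autoImplicit false
set_option maxRecDepth 20000
set_option maxHeartbeats 800000
set_option linter.all false
set_option Elab.async false

namespace CfsgLib.KnownA.F4Multiplier

open CfsgLib.Chevalley CfsgLib.Chevalley.Tbl CfsgLib.F4Inv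

local notation "T4" => Data.F4.tbl

variable {K : Type*} [Field K] {m : ℕ}

/-- The exponents of the two parameters in the value at a root. -/
def expC (m : ℕ) (r : ℕ) : ℤ := (T4).ca 0 r * (2 : ℤ) ^ m + (T4).ca 3 r

/-- The exponents of the two parameters in the value at a root. -/
def expD (m : ℕ) (r : ℕ) : ℤ := (T4).ca 1 r * (2 : ℤ) ^ m + (T4).ca 2 r

/-- The value of a torus element at a root. -/
def lam (m : ℕ) (c d : Kˣ) (r : ℕ) : Kˣ := c ^ expC m r * d ^ expD m r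

theorem lam_eq (c d : Kˣ) (r : ℕ) :
    ∏ i : Fin (T4).rank, Twist.F4.supp m c d i ^ (T4).ca i r = lam m c d r := by
  show ∏ i : Fin 4, Twist.F4.supp m c d i ^ (T4).ca i.val r = _
  rw [Fin.prod_univ_four]
  show (c ^ 2 ^ m) ^ (T4).ca 0 r * (d ^ 2 ^ m) ^ (T4).ca 1 r * d ^ (T4).ca 2 r * c ^ (T4).ca 3 r = _
  rw [lam, expC, expD, zpow_add, zpow_add, mul_comm ((T4).ca 0 r), mul_comm ((T4).ca 1 r), zpow_mul, zpow_mul]
  rw [show (2 : ℤ) ^ m = ((2 ^ m : ℕ) : ℤ) by push_cast; rfl]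
  simp only [zpow_natCast]
  simp only [mul_assoc, mul_comm, mul_left_comm]

/-- The torus element of two parameters. -/
noncomputable def tor (m : ℕ) (c d : Kˣ) : GL (T4).I K := torusHom T4 K (Twist.F4.supp m c d)

theorem tor_x (c d : Kˣ) {r : ℕ} (hr : r < 48) (t : K) (z : GL (T4).I K) :
    tor m c d * ((T4).xU K r t * z) =
      (T4).xU K r ((lam m c d r : K) * t) * (tor m c d * z) := by
  rw [← mul_assoc, ← mul_assoc]
  congr 1
  show (T4).dU (fun s => ∏ i, Twist.F4.supp m c d i ^ (T4).ca i s) * _ = _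
  rw [dU_conj_X Data.F4.valid (isChar_prod Data.F4.valid _) (lt48 hr), lam_eq]
  rfl

theorem tor_comm (c d c' d' : Kˣ) : Commute (tor (m := m) c d) (tor m c' d') := by
  show tor m c d * tor m c' d' = tor m c' d' * tor m c d
  rw [tor, tor, ← map_mul, ← map_mul, mul_comm]

variable [CharP K 2] [Finite K] (hK : Nat.card K = 2 ^ (2 * m + 1))
include hK

theorem tor_fix (c d : Kˣ) : tor m c d ∈ (Twist.F4.S hK).fix :=
  ((Twist.F4.diag_fix hK).ge (Subgroup.mem_map_of_mem _ (Twist.F4.supp_mem hK c d))).2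

/-- The square root of two on the exponents. -/
theorem theta_sq (c : Kˣ) : c ^ ((2 : ℤ) ^ m * (2 * (2 : ℤ) ^ m)) = c := by
  rw [show (2 : ℤ) ^ m * (2 * (2 : ℤ) ^ m) = ((2 ^ m * (2 * 2 ^ m) : ℕ) : ℤ) by push_cast; ring,
    zpow_natCast, pow_mul]
  exact Twist.F4.units_theta hK c

theorem sig_lam (c d : Kˣ) {r r' : ℕ}
    (h : (T4).ca 0 r' = 2 * (T4).ca 3 r ∧ (T4).ca 3 r' = (T4).ca 0 r ∧
      (T4).ca 1 r' = 2 * (T4).ca 2 r ∧ (T4).ca 2 r' = (T4).ca 1 r) :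
    sig (K := K) (m := m) (lam m c d r : K) = (lam m c d r' : K) := by
  obtain ⟨h0, h3, h1, h2⟩ := h
  rw [sig_apply, ← Units.val_pow_eq_pow_val]
  congr 1
  have key : ∀ (x : Kˣ) (a b : ℤ), (x ^ (a * (2 : ℤ) ^ m + b)) ^ (2 * 2 ^ m) =
      x ^ (2 * b * (2 : ℤ) ^ m + a) := by
    intro x a b
    have e : (((2 * 2 ^ m : ℕ)) : ℤ) = 2 * (2 : ℤ) ^ m := by push_cast; ring
    rw [← zpow_natCast, ← zpow_mul, e,
      show (a * (2 : ℤ) ^ m + b) * (2 * (2 : ℤ) ^ m) =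
        2 * b * (2 : ℤ) ^ m + (2 : ℤ) ^ m * (2 * (2 : ℤ) ^ m) * a by ring,
      zpow_add, zpow_mul x ((2 : ℤ) ^ m * (2 * (2 : ℤ) ^ m)) a, theta_sq hK, zpow_add]
  rw [lam, lam, mul_pow]
  simp only [expC, expD, key, h0, h1, h2, h3]

theorem units_pow_card (c : Kˣ) : c ^ (2 ^ (2 * m + 1) - 1) = 1 := by
  rw [← hK, ← Nat.card_units]
  exact pow_card_eq_one'

/-- A parameter killed by an exponent of norm a small power of two is trivial. -/
theorem eq_one_of_norm (c : Kˣ) {P Q : ℤ} (hn : (2 * P ^ 2 - Q ^ 2).natAbs ∈ [1, 2, 4, 8])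
    (h : c ^ (P + Q * (2 : ℤ) ^ m) = 1) : c = 1 := by
  have hN : c ^ (2 * (2 : ℤ) ^ m * (2 : ℤ) ^ m - 1) = 1 := by
    rw [sub_eq_add_neg, zpow_add, mul_comm _ ((2 : ℤ) ^ m), theta_sq hK, zpow_neg_one, mul_inv_cancel]
  have h1 : c ^ (2 * P ^ 2 - Q ^ 2) = 1 := by
    rw [show 2 * P ^ 2 - Q ^ 2 = (P + Q * (2 : ℤ) ^ m) * (2 * P - 2 * Q * (2 : ℤ) ^ m) +
      (2 * (2 : ℤ) ^ m * (2 : ℤ) ^ m - 1) * Q ^ 2 by ring, zpow_add, zpow_mul, zpow_mul, h, hN,
      one_zpow, one_zpow, mul_one]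
  have h2 : c ^ (2 * P ^ 2 - Q ^ 2).natAbs = 1 := pow_natAbs_eq_one.2 h1
  have hd := orderOf_dvd_of_pow_eq_one h2
  have ho : orderOf c ∣ 2 ^ (2 * m + 1) - 1 := orderOf_dvd_of_pow_eq_one (units_pow_card hK c)
  have h8 : orderOf c ∣ 2 ^ 3 := by
    refine hd.trans ?_
    simp only [List.mem_cons, List.not_mem_nil, or_false] at hn
    rcases hn with e | e | e | e <;> rw [e] <;> norm_num
  have hcop : Nat.Coprime (2 ^ 3) (2 ^ (2 * m + 1) - 1) := by
    refine Nat.Coprime.pow_left 3 ((Nat.prime_two.coprime_iff_not_dvd).2 fun h2 => ?_)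
    have : 2 ∣ 2 ^ (2 * m + 1) := dvd_pow_self 2 (by omega)
    have := Nat.one_le_two_pow (n := 2 * m + 1)
    omega
  exact orderOf_eq_one_iff.1 (Nat.eq_one_of_dvd_coprimes hcop h8 ho)

/-- Two roots in different directions: a torus element fixing one and moving the other. -/
theorem exists_moving (hm : 1 ≤ m) {r r' : ℕ}
    (h : let A0 := (T4).ca 0 r; let A3 := (T4).ca 3 r; let A1 := (T4).ca 1 r; let A2 := (T4).ca 2 r
      let B0 := (T4).ca 0 r'; let B3 := (T4).ca 3 r'; let B1 := (T4).ca 1 r'; let B2 := (T4).ca 2 r'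
      (2 * ((B0 * A1 - B1 * A0) + 2 * (B3 * A2 - B2 * A3)) ^ 2 -
        (2 * (B0 * A2 + B3 * A1 - B1 * A3 - B2 * A0)) ^ 2).natAbs ∈ [1, 2, 4, 8]) :
    ∃ c d : Kˣ, lam m c d r = 1 ∧ lam m c d r' ≠ 1 := by
  obtain ⟨g, hg⟩ := IsCyclic.exists_ofOrder_eq_natCard (α := Kˣ)
  refine ⟨g ^ expD m r, g ^ (-expC m r), ?_, ?_⟩
  · rw [lam, ← zpow_mul, ← zpow_mul, ← zpow_add,
      show expD m r * expC m r + -expC m r * expD m r = 0 by ring, zpow_zero]
  · intro h1
    rw [lam, ← zpow_mul, ← zpow_mul, ← zpow_add] at h1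
    have hN : g ^ (2 * (2 : ℤ) ^ m * (2 : ℤ) ^ m - 1) = 1 := by
      rw [sub_eq_add_neg, zpow_add, mul_comm _ ((2 : ℤ) ^ m), theta_sq hK, zpow_neg_one, mul_inv_cancel]
    have h2 : g ^ ((2 : ℤ) * (expD m r * expC m r' + -expC m r * expD m r')) = 1 := by
      rw [mul_comm, zpow_mul, h1, one_zpow]
    have hg1 : g = 1 := by
      refine eq_one_of_norm hK g h ?_
      set t : ℤ := (2 : ℤ) ^ m
      rw [show (((T4).ca 0 r' * (T4).ca 1 r - (T4).ca 1 r' * (T4).ca 0 r) +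
          2 * ((T4).ca 3 r' * (T4).ca 2 r - (T4).ca 2 r' * (T4).ca 3 r)) +
          2 * ((T4).ca 0 r' * (T4).ca 2 r + (T4).ca 3 r' * (T4).ca 1 r - (T4).ca 1 r' * (T4).ca 3 r -
            (T4).ca 2 r' * (T4).ca 0 r) * t =
          2 * (expD m r * expC m r' + -expC m r * expD m r') +
            (2 * t * t - 1) * -((T4).ca 0 r' * (T4).ca 1 r - (T4).ca 1 r' * (T4).ca 0 r) by
        simp only [expC, expD]; ring, zpow_add, zpow_mul g (2 * t * t - 1), h2, hN, one_zpow, mul_one]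
    rw [hg1, orderOf_one, Nat.card_units, hK] at hg
    have : 2 ^ 3 ≤ 2 ^ (2 * m + 1) := Nat.pow_le_pow_right (by norm_num) (by omega)
    omega

/-- Every value is taken at a root with a coordinate of small norm. -/
theorem lam_surjective {r : ℕ}
    (h : (2 * (T4).ca 3 r ^ 2 - (T4).ca 0 r ^ 2).natAbs ∈ [1, 2, 4, 8] ∨
      (2 * (T4).ca 2 r ^ 2 - (T4).ca 1 r ^ 2).natAbs ∈ [1, 2, 4, 8]) (l : Kˣ) :
    ∃ c d : Kˣ, lam m c d r = l := by
  rcases h with h | h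
  · obtain ⟨c, hc⟩ : ∃ c : Kˣ, c ^ expC m r = l := by
      refine Finite.surjective_of_injective (f := fun c : Kˣ => c ^ expC m r) (fun x y e => ?_) l
      rw [← mul_inv_eq_one]
      refine eq_one_of_norm hK _ h ?_
      rw [show (T4).ca 3 r + (T4).ca 0 r * (2 : ℤ) ^ m = expC m r by rw [expC, add_comm], mul_zpow, inv_zpow,
        show x ^ expC m r = y ^ expC m r from e, mul_inv_cancel]
    exact ⟨c, 1, by rw [lam, one_zpow, mul_one, hc]⟩
  · obtain ⟨c, hc⟩ : ∃ c : Kˣ, c ^ expD m r = l := by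
      refine Finite.surjective_of_injective (f := fun c : Kˣ => c ^ expD m r) (fun x y e => ?_) l
      rw [← mul_inv_eq_one]
      refine eq_one_of_norm hK _ h ?_
      rw [show (T4).ca 2 r + (T4).ca 1 r * (2 : ℤ) ^ m = expD m r by rw [expD, add_comm], mul_zpow, inv_zpow,
        show x ^ expD m r = y ^ expD m r from e, mul_inv_cancel]
    exact ⟨1, c, by rw [lam, one_zpow, one_mul, hc]⟩

end CfsgLib.KnownA.F4Multiplier
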