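import Cfsg.Agent.Lib.KnownA.F4Multiplier.Pairing
import Cfsg.Agent.Lib.KnownA.F4Multiplier.Weights

/-!
The twelve one-parameter families of the positive part of ²F₄(q): the filtration they give.
-/

set_option autoImplicit false
set_option maxRecDepth 20000
set_option maxHeartbeats 2000000
set_option linter.all false
set_option Elab.async false

namespace CfsgLib.KnownA.F4Multiplier

open CfsgLib.Chevalley CfsgLib.Chevalley.Tbl CfsgLib.F4Inv

local notation "T4" => Data.F4.tbl

variable {K : Type*} [Field K] [CharP K 2]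

attribute [local irreducible] G1 G2 G3 G4 G5 G6 G7 G8

/-- The families, from the deepest on. -/
noncomputable def gF (σ : K ≃+* K) : Fin 12 → K → GL (T4).I K :=
  ![fun t => G4 σ 0 t, fun t => G6 σ 0 t, G5 σ, G3 σ, fun t => G2 σ 0 t, G7 σ, fun t => G4 σ t 0,
    fun t => G6 σ t 0, fun t => G2 σ t 0, fun t => G8 σ 0 t, fun t => G8 σ t 0, G1 σ]

/-- The root carrying the parameter. -/
def rootF : Fin 12 → ℕ := ![44, 40, 39, 38, 36, 37, 29, 35, 34, 28, 27, 33]

variable {σ : K ≃+* K} (hσ : ∀ x, σ (σ x) = x ^ 2)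

/-- An element of the tail times a last factor. -/
def Tailed (σ : K ≃+* K) (M : ℕ) (b e : GL (T4).I K) : Prop := ∃ x ∈ Gl (gF σ) M, e = x * b

theorem Tailed.nil {M : ℕ} {b : GL (T4).I K} : Tailed σ M b b := ⟨1, one_mem _, (one_mul b).symm⟩

theorem Tailed.cons {M : ℕ} {b e x : GL (T4).I K} (hx : x ∈ Gl (gF σ) M) (he : Tailed σ M b e) :
    Tailed σ M b (x * e) := by
  obtain ⟨y, hy, rfl⟩ := he
  exact ⟨x * y, mul_mem hx hy, (mul_assoc _ _ _).symm⟩

include hσ

theorem same {M : ℕ} {G : K → K → GL (T4).I K}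
    (hmul : ∀ s u t v, G s u * G t v = G (s + t) (s * σ t + u + v)) (t u : K) :
    ∃ x ∈ Gl (gF σ) M, G t 0 * G 0 u = G 0 u * x * G t 0 ∨ G 0 u * G t 0 = G t 0 * x * G 0 u :=
  ⟨1, one_mem _, Or.inl (by rw [mul_one, hmul, hmul]; simp)⟩

theorem split {G : K → K → GL (T4).I K}
    (hmul : ∀ s u t v, G s u * G t v = G (s + t) (s * σ t + u + v)) (p q : K) :
    G p q = G p 0 * G 0 q := by
  rw [hmul]; simp

omit hσ in
theorem mem_fam {M : ℕ} (i : Fin 12) (h : i.val < M) (t : K) : gF σ i t ∈ Gl (gF σ) M := mem_Gl _ h t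

theorem mem1 {M : ℕ} (p : K) (h : p = 0 ∨ 11 < M) : G1 σ p ∈ Gl (gF σ) M := by
  rcases h with rfl | h
  · rw [G1_zero]; exact one_mem _
  · exact mem_fam 11 h p

theorem mem2 {M : ℕ} (p q : K) (hp : p = 0 ∨ 8 < M) (hq : q = 0 ∨ 4 < M) : G2 σ p q ∈ Gl (gF σ) M := by
  rw [split hσ (mul2 hσ) p q]
  refine mul_mem ?_ ?_
  · rcases hp with rfl | h
    · rw [G2_zero]; exact one_mem _
    · exact mem_fam 8 h p
  · rcases hq with rfl | h
    · rw [G2_zero]; exact one_mem _
    · exact mem_fam 4 h q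

theorem mem3 {M : ℕ} (p : K) (h : p = 0 ∨ 3 < M) : G3 σ p ∈ Gl (gF σ) M := by
  rcases h with rfl | h
  · rw [G3_zero]; exact one_mem _
  · exact mem_fam 3 h p

theorem mem4 {M : ℕ} (p q : K) (hp : p = 0 ∨ 6 < M) (hq : q = 0 ∨ 0 < M) : G4 σ p q ∈ Gl (gF σ) M := by
  rw [split hσ (mul4 hσ) p q]
  refine mul_mem ?_ ?_
  · rcases hp with rfl | h
    · rw [G4_zero]; exact one_mem _
    · exact mem_fam 6 h p
  · rcases hq with rfl | h
    · rw [G4_zero]; exact one_mem _
    · exact mem_fam 0 h q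

theorem mem5 {M : ℕ} (p : K) (h : p = 0 ∨ 2 < M) : G5 σ p ∈ Gl (gF σ) M := by
  rcases h with rfl | h
  · rw [G5_zero]; exact one_mem _
  · exact mem_fam 2 h p

theorem mem6 {M : ℕ} (p q : K) (hp : p = 0 ∨ 7 < M) (hq : q = 0 ∨ 1 < M) : G6 σ p q ∈ Gl (gF σ) M := by
  rw [split hσ (mul6 hσ) p q]
  refine mul_mem ?_ ?_
  · rcases hp with rfl | h
    · rw [G6_zero]; exact one_mem _
    · exact mem_fam 7 h p
  · rcases hq with rfl | h
    · rw [G6_zero]; exact one_mem _
    · exact mem_fam 1 h q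

theorem mem7 {M : ℕ} (p : K) (h : p = 0 ∨ 5 < M) : G7 σ p ∈ Gl (gF σ) M := by
  rcases h with rfl | h
  · rw [G7_zero]; exact one_mem _
  · exact mem_fam 5 h p

theorem mem8 {M : ℕ} (p q : K) (hp : p = 0 ∨ 10 < M) (hq : q = 0 ∨ 9 < M) : G8 σ p q ∈ Gl (gF σ) M := by
  rw [split hσ (mul8 hσ) p q]
  refine mul_mem ?_ ?_
  · rcases hp with rfl | h
    · rw [G8_zero]; exact one_mem _
    · exact mem_fam 10 h p
  · rcases hq with rfl | h
    · rw [G8_zero]; exact one_mem _
    · exact mem_fam 9 h q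

omit hσ in
theorem ruleA {M : ℕ} {gk gj e : GL (T4).I K} (h : gk * gj = gj * e)
    (ht : Tailed σ M gk e := by
      repeat' (first
        | with_reducible exact Tailed.nil
        | with_reducible apply Tailed.cons
        | with_reducible apply mem1 | with_reducible apply mem2 | with_reducible apply mem3
        | with_reducible apply mem4 | with_reducible apply mem5 | with_reducible apply mem6
        | with_reducible apply mem7
        | assumption
        | (right; decide)
        | (left; simp; done))) :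
    ∃ x ∈ Gl (gF σ) M, gk * gj = gj * x * gk ∨ gj * gk = gk * x * gj := by
  obtain ⟨x, hx, rfl⟩ := ht
  exact ⟨x, hx, Or.inl (by rw [h, mul_assoc])⟩

omit hσ in
theorem ruleB {M : ℕ} {gk gj e : GL (T4).I K} (h : gj * gk = gk * e)
    (ht : Tailed σ M gj e := by
      repeat' (first
        | with_reducible exact Tailed.nil
        | with_reducible apply Tailed.cons
        | with_reducible apply mem1 | with_reducible apply mem2 | with_reducible apply mem3
        | with_reducible apply mem4 | with_reducible apply mem5 | with_reducible apply mem6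
        | with_reducible apply mem7
        | assumption
        | (right; decide)
        | (left; simp; done))) :
    ∃ x ∈ Gl (gF σ) M, gk * gj = gj * x * gk ∨ gj * gk = gk * x * gj := by
  obtain ⟨x, hx, rfl⟩ := ht
  exact ⟨x, hx, Or.inr (by rw [h, mul_assoc])⟩

theorem rules (j k : Fin 12) (hjk : j < k) (t u : K) :
    ∃ x ∈ Gl (gF σ) j.val,
      gF σ k t * gF σ j u = gF σ j u * x * gF σ k t ∨ gF σ j u * gF σ k t = gF σ k t * x * gF σ j u := by
  fin_cases j <;> fin_cases k <;> first | (exact absurd hjk (by decide)) | skip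
  · have e := ruleA (σ := σ) (M := 0) (c46 hσ 0 u 0 t); exact e
  · have e := ruleA (σ := σ) (M := 0) (c45 hσ 0 u t); exact e
  · have e := ruleB (σ := σ) (M := 0) (c34 hσ t 0 u); exact e
  · have e := ruleB (σ := σ) (M := 0) (c24 hσ 0 t 0 u); exact e
  · have e := ruleA (σ := σ) (M := 0) (c47 hσ 0 u t); exact e
  · exact same hσ (mul4 hσ) t u
  · have e := ruleA (σ := σ) (M := 0) (c46 hσ 0 u t 0); exact e
  · have e := ruleB (σ := σ) (M := 0) (c24 hσ t 0 0 u); exact e
  · have e := ruleA (σ := σ) (M := 0) (c48 hσ 0 u 0 t); exact e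
  · have e := ruleA (σ := σ) (M := 0) (c48 hσ 0 u t 0); exact e
  · have e := ruleB (σ := σ) (M := 0) (c14 hσ t 0 u); exact e
  · have e := ruleB (σ := σ) (M := 1) (c56 hσ t 0 u); exact e
  · have e := ruleB (σ := σ) (M := 1) (c36 hσ t 0 u); exact e
  · have e := ruleB (σ := σ) (M := 1) (c26 hσ 0 t 0 u); exact e
  · have e := ruleA (σ := σ) (M := 1) (c67 hσ 0 u t); exact e
  · have e := ruleB (σ := σ) (M := 1) (c46 hσ t 0 0 u); exact e
  · exact same hσ (mul6 hσ) t u
  · have e := ruleB (σ := σ) (M := 1) (c26 hσ t 0 0 u); exact e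
  · have e := ruleA (σ := σ) (M := 1) (c68 hσ 0 u 0 t); exact e
  · have e := ruleA (σ := σ) (M := 1) (c68 hσ 0 u t 0); exact e
  · have e := ruleB (σ := σ) (M := 1) (c16 hσ t 0 u); exact e
  · have e := ruleB (σ := σ) (M := 2) (c35 hσ t u); exact e
  · have e := ruleB (σ := σ) (M := 2) (c25 hσ 0 t u); exact e
  · have e := ruleA (σ := σ) (M := 2) (c57 hσ u t); exact e
  · have e := ruleB (σ := σ) (M := 2) (c45 hσ t 0 u); exact e
  · have e := ruleA (σ := σ) (M := 2) (c56 hσ u t 0); exact e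
  · have e := ruleB (σ := σ) (M := 2) (c25 hσ t 0 u); exact e
  · have e := ruleA (σ := σ) (M := 2) (c58 hσ u 0 t); exact e
  · have e := ruleA (σ := σ) (M := 2) (c58 hσ u t 0); exact e
  · have e := ruleB (σ := σ) (M := 2) (c15 hσ t u); exact e
  · have e := ruleB (σ := σ) (M := 3) (c23 hσ 0 t u); exact e
  · have e := ruleA (σ := σ) (M := 3) (c37 hσ u t); exact e
  · have e := ruleA (σ := σ) (M := 3) (c34 hσ u t 0); exact e
  · have e := ruleA (σ := σ) (M := 3) (c36 hσ u t 0); exact e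
  · have e := ruleB (σ := σ) (M := 3) (c23 hσ t 0 u); exact e
  · have e := ruleA (σ := σ) (M := 3) (c38 hσ u 0 t); exact e
  · have e := ruleA (σ := σ) (M := 3) (c38 hσ u t 0); exact e
  · have e := ruleB (σ := σ) (M := 3) (c13 hσ t u); exact e
  · have e := ruleA (σ := σ) (M := 4) (c27 hσ 0 u t); exact e
  · have e := ruleA (σ := σ) (M := 4) (c24 hσ 0 u t 0); exact e
  · have e := ruleA (σ := σ) (M := 4) (c26 hσ 0 u t 0); exact e
  · exact same hσ (mul2 hσ) t u
  · have e := ruleA (σ := σ) (M := 4) (c28 hσ 0 u 0 t); exact e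
  · have e := ruleA (σ := σ) (M := 4) (c28 hσ 0 u t 0); exact e
  · have e := ruleB (σ := σ) (M := 4) (c12 hσ t 0 u); exact e
  · have e := ruleB (σ := σ) (M := 5) (c47 hσ t 0 u); exact e
  · have e := ruleB (σ := σ) (M := 5) (c67 hσ t 0 u); exact e
  · have e := ruleB (σ := σ) (M := 5) (c27 hσ t 0 u); exact e
  · have e := ruleA (σ := σ) (M := 5) (c78 hσ u 0 t); exact e
  · have e := ruleA (σ := σ) (M := 5) (c78 hσ u t 0); exact e
  · have e := ruleB (σ := σ) (M := 5) (c17 hσ t u); exact e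
  · have e := ruleA (σ := σ) (M := 6) (c46 hσ u 0 t 0); exact e
  · have e := ruleB (σ := σ) (M := 6) (c24 hσ t 0 u 0); exact e
  · have e := ruleA (σ := σ) (M := 6) (c48 hσ u 0 0 t); exact e
  · have e := ruleA (σ := σ) (M := 6) (c48 hσ u 0 t 0); exact e
  · have e := ruleB (σ := σ) (M := 6) (c14 hσ t u 0); exact e
  · have e := ruleB (σ := σ) (M := 7) (c26 hσ t 0 u 0); exact e
  · have e := ruleA (σ := σ) (M := 7) (c68 hσ u 0 0 t); exact e
  · have e := ruleA (σ := σ) (M := 7) (c68 hσ u 0 t 0); exact e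
  · have e := ruleB (σ := σ) (M := 7) (c16 hσ t u 0); exact e
  · have e := ruleA (σ := σ) (M := 8) (c28 hσ u 0 0 t); exact e
  · have e := ruleA (σ := σ) (M := 8) (c28 hσ u 0 t 0); exact e
  · have e := ruleB (σ := σ) (M := 8) (c12 hσ t u 0); exact e
  · exact same hσ (mul8 hσ) t u
  · have e := ruleB (σ := σ) (M := 9) (c18 hσ t 0 u); exact e
  · have e := ruleB (σ := σ) (M := 10) (c18 hσ t u 0); exact e

end CfsgLib.KnownA.F4Multiplier

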