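import Cfsg.Agent.Lib.KnownA.F4Multiplier.Odd
import Cfsg.Agent.Lib.Schur.Bound
import Cfsg.Agent.Lib.Schur.Basic
import Mathlib.GroupTheory.Perm.Cycle.Type

/-!
The Schur multiplier of ²F₄(q), q > 2, is trivial.
-/

set_option autoImplicit false
set_option maxRecDepth 20000
set_option maxHeartbeats 800000
set_option linter.all false
set_option Elab.async false

namespace CfsgLib.KnownA.F4Multiplier

open CfsgLib.Chevalley CfsgLib.Chevalley.Tbl CfsgLib.F4Inv

local notation "T4" => Data.F4.tbl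

variable {K : Type*} [Field K] [Finite K] {m : ℕ} (hK : Nat.card K = 2 ^ (2 * m + 1))

local notation "SS" => Twist.F4.S hK

/-- The multiplier of the group of fixed points is trivial. -/
theorem fix_hasCyclicSchurMultiplier_one (hm : 1 ≤ m) : Cfsg.HasCyclicSchurMultiplier ↥(SS).fix 1 := by
  haveI := Twist.F4.charTwo hK
  haveI : Finite ↥(SS).fix := Finite.of_injective _ Subtype.val_injective
  refine CfsgLib.Schur.Basic.hasCyclicSchurMultiplier_one_of fun Γ _ _ s hs => ?_
  obtain ⟨hsurj, hk, hd⟩ := hs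
  set π : Γ →* GL (T4).I K := (SS).fix.subtype.comp s with hπ
  have hker : π.ker = s.ker := MonoidHom.ker_comp_of_injective _ _ Subtype.val_injective
  have hrange : π.range = (SS).fix := by
    rw [hπ, MonoidHom.range_comp, MonoidHom.range_eq_top.2 hsurj, ← MonoidHom.range_eq_map,
      Subgroup.range_subtype]
  have X : Cext hK π := ⟨hker ▸ hk, hrange⟩
  set U := (SS).fix ⊓ (T4).rootGen K (fun r => (T4).half ≤ r) with hU
  have hindex : ¬ 2 ∣ (U.subgroupOf (SS).fix).index := by
    intro hdvd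
    have h1 := (U.subgroupOf (SS).fix).card_mul_index
    have hle : U ≤ (SS).fix := inf_le_left
    rw [Nat.card_congr (Subgroup.subgroupOfEquivOfLe hle).toEquiv] at h1
    have hcU : Nat.card ↥U = (2 ^ (2 * m + 1)) ^ 12 := by
      rw [hU, inf_comm, ← posUnipotent_rootGen Data.F4.valid]; exact Twist.F4.card_Upos hK
    have h3 := Twist.F4.card_eq hK
    rw [Twist.F4.grp_eq_fix hK] at h3
    rw [h3, hcU, mul_assoc, mul_assoc, mul_assoc] at h1
    rw [Nat.eq_of_mul_eq_mul_left (pow_pos (Nat.two_pow_pos _) 12) h1] at hdvd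
    have hq1 : 1 ≤ 2 ^ (2 * m + 1) := Nat.one_le_two_pow
    have hz : ((2 ^ (2 * m + 1) : ℕ) : ZMod 2) = 0 := by
      rw [Nat.cast_pow, ZMod.natCast_self, zero_pow (by omega)]
    rw [← ZMod.natCast_eq_zero_iff] at hdvd
    rw [Nat.cast_mul, Nat.cast_mul, Nat.cast_mul, Nat.cast_sub hq1, Nat.cast_sub (Nat.one_le_pow _ _ hq1),
      Nat.cast_add, Nat.cast_add, Nat.cast_pow (2 ^ (2 * m + 1)) 3, Nat.cast_pow (2 ^ (2 * m + 1)) 4,
      Nat.cast_pow (2 ^ (2 * m + 1)) 6, hz] at hdvd
    simp at hdvd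
  have hkill : ∀ z : Γ, s z = 1 → z ^ (U.subgroupOf (SS).fix).index = 1 := by
    intro z hz
    have h := CfsgLib.Schur.Bound.pow_index_mem s hsurj (U.subgroupOf (SS).fix) (hk hz) (hd hz)
    exact X.pos_trivial hm (by rw [map_pow, show π z = 1 from congrArg Subtype.val hz, one_pow]) h
  have hcop : Nat.Coprime 2 (Nat.card π.ker) := by
    rw [Nat.Prime.coprime_iff_not_dvd Nat.prime_two]
    intro hdvd
    haveI : Fact (Nat.Prime 2) := ⟨Nat.prime_two⟩
    obtain ⟨⟨z, hz⟩, hord⟩ := exists_prime_orderOf_dvd_card' 2 hdvd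
    rw [Subgroup.orderOf_mk] at hord
    refine hindex ?_
    have h := orderOf_dvd_of_pow_eq_one (hkill z (Subtype.ext hz))
    rwa [hord] at h
  have Y : Sec π SS (Twist.F4.O hK) (0 : Fin 2) (1 : Fin 2) (repJ hK) :=
    { ext := ⟨X.ker_le, hcop⟩
      range_eq := hrange
      two := fun j => (by decide : ∀ j : Fin 2, j = 0 ∨ j = 1) j
      pos_two := pos_two hK
      diag_odd := diag_odd hK
      diag_comm := diag_comm hK
      rep_mem := repJ_mem hK
      rep_mono := repJ_mono hK
      rep_sq := repJ_sq hK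
      dihedral := repJ_dihedral hK
      indep := indep hK
      cyc := fun j p _ hp P hP => cyc hK j p hp P hP
      gen := generated hK }
  have hmain := Y.ker_inf_commutator
  rw [← hker, eq_bot_iff, ← hmain]
  exact le_inf le_rfl (hker ▸ hd)

include hK in
/-- The multiplier of `²F₄(q)` is trivial for `q > 2`. -/
theorem twistedF4_hasCyclicSchurMultiplier_one (hm : 1 ≤ m) :
    Cfsg.HasCyclicSchurMultiplier ↥(Cfsg.Lie.twistedF4 K (2 ^ m)) 1 :=
  Twist.F4.transfer hK (fun _ H => Cfsg.HasCyclicSchurMultiplier ↥H 1)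
    (fix_hasCyclicSchurMultiplier_one hK hm)

end CfsgLib.KnownA.F4Multiplier
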