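import Cfsg.Agent.Lib.KnownA.F4Multiplier.Families

/-!
The prime two: the preimage of the positive part of ²F₄(q) in a central extension has commutators meeting
the kernel trivially.
-/

set_option autoImplicit false
set_option maxRecDepth 20000
set_option maxHeartbeats 2000000
set_option linter.all false
set_option Elab.async false

namespace CfsgLib.KnownA.F4Multiplier

open CfsgLib.Chevalley CfsgLib.Chevalley.Tbl CfsgLib.F4Inv
open scoped commutatorElement
open D4Multiplier (commute_ker bracket_congr conj_bracket bracket_ker commutator_inf_ker bracket_mul_left)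

local notation "T4" => Data.F4.tbl

attribute [local irreducible] G1 G2 G3 G4 G5 G6 G7 G8

variable {K : Type*} [Field K] [CharP K 2] [Finite K] {m : ℕ} (hK : Nat.card K = 2 ^ (2 * m + 1))

local notation "σ" => sig (K := K) (m := m)
local notation "SS" => Twist.F4.S hK

/-- Central extensions of ²F₄(q), given by a map to matrices. -/
structure Cext {E : Type*} [Group E] (π : E →* GL (T4).I K) : Prop where
  ker_le : π.ker ≤ Subgroup.center E
  range_eq : π.range = (SS).fix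

omit [Finite K] [CharP K 2] in
theorem ca_pairs : ∀ p ∈ ([(34, 26), (36, 42), (38, 43), (29, 41), (44, 47), (39, 45), (35, 31), (40, 46),
    (37, 32), (27, 25), (28, 30), (33, 24)] : List (ℕ × ℕ)),
    (T4).ca 0 p.2 = 2 * (T4).ca 3 p.1 ∧ (T4).ca 3 p.2 = (T4).ca 0 p.1 ∧
      (T4).ca 1 p.2 = 2 * (T4).ca 2 p.1 ∧ (T4).ca 2 p.2 = (T4).ca 1 p.1 := by
  decide +kernel

omit [Finite K] [CharP K 2] in
theorem ca_triples : ∀ p ∈ ([(34, 26, 42), (29, 41, 47), (35, 31, 46), (27, 25, 30)] : List (ℕ × ℕ × ℕ)),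
    ∀ i < 4, (T4).ca i p.2.2 = 2 * (T4).ca i p.1 + (T4).ca i p.2.1 := by
  decide +kernel

include hK in
theorem lam_sq (c d : Kˣ) {r s u : ℕ} (h : (r, s, u) ∈ ([(34, 26, 42), (29, 41, 47), (35, 31, 46),
    (27, 25, 30)] : List (ℕ × ℕ × ℕ))) (x y : K) :
    ((lam m c d r : K) * x) ^ 2 * ((lam m c d s : K) * y) = (lam m c d u : K) * (x ^ 2 * y) := by
  have e : lam m c d u = lam m c d r ^ 2 * lam m c d s := by
    have h' := ca_triples _ h
    simp only [lam, expC, expD, h' 0 (by norm_num), h' 1 (by norm_num), h' 2 (by norm_num), h' 3 (by norm_num)]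
    rw [mul_pow, ← zpow_natCast, ← zpow_natCast, ← zpow_mul, ← zpow_mul, mul_mul_mul_comm, ← zpow_add, ← zpow_add]
    congr 2 <;> push_cast <;> ring
  rw [e, Units.val_mul, Units.val_pow_eq_pow_val]
  ring

include hK in
theorem tor_g (c d : Kˣ) (k : Fin 12) (t : K) :
    tor m c d * gF σ k t = gF σ k ((lam m c d (rootF k) : K) * t) * tor m c d := by
  have hs : ∀ {r r' : ℕ}, (r, r') ∈ ([(34, 26), (36, 42), (38, 43), (29, 41), (44, 47), (39, 45), (35, 31),
      (40, 46), (37, 32), (27, 25), (28, 30), (33, 24)] : List (ℕ × ℕ)) → ∀ x : K,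
      σ ((lam m c d r : K) * x) = (lam m c d r' : K) * σ x := fun {r r'} h x => by
    rw [map_mul, sig_lam hK c d (ca_pairs _ h)]
  have hx : ∀ {r : ℕ}, r < 48 → ∀ x : K,
      tor m c d * (T4).xU K r x = (T4).xU K r ((lam m c d r : K) * x) * tor m c d :=
    fun hr x => by simpa using tor_x c d hr x 1
  fin_cases k <;>
    simp [gF, rootF, G1, G2, G3, G4, G5, G6, G7, G8, mul_assoc, tor_x, hx, x_zero, hs (r := 34) (r' := 26),
      hs (r := 36) (r' := 42), hs (r := 38) (r' := 43), hs (r := 29) (r' := 41), hs (r := 44) (r' := 47),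
      hs (r := 39) (r' := 45), hs (r := 35) (r' := 31), hs (r := 40) (r' := 46), hs (r := 37) (r' := 32),
      hs (r := 27) (r' := 25), hs (r := 28) (r' := 30), hs (r := 33) (r' := 24),
      lam_sq hK c d (r := 34) (s := 26) (u := 42), lam_sq hK c d (r := 29) (s := 41) (u := 47),
      lam_sq hK c d (r := 35) (s := 31) (u := 46), lam_sq hK c d (r := 27) (s := 25) (u := 30)]

include hK in
theorem gF_fix (k : Fin 12) (t : K) : gF σ k t ∈ (SS).fix := by
  fin_cases k
  · exact G4_fix hK _ _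
  · exact G6_fix hK _ _
  · exact G5_fix hK _
  · exact G3_fix hK _
  · exact G2_fix hK _ _
  · exact G7_fix hK _
  · exact G4_fix hK _ _
  · exact G6_fix hK _ _
  · exact G2_fix hK _ _
  · exact G8_fix hK _ _
  · exact G8_fix hK _ _
  · exact G1_fix hK _

include hK in
theorem fam_add (k : Fin 12) (s t : K) :
    ∃ r ∈ Gl (gF σ) k.val, gF σ k s * gF σ k t = gF σ k (s + t) * r := by
  have h := hσ hK
  have hu : ∀ {G : K → K → GL (T4).I K}, (∀ s u t v, G s u * G t v = G (s + t) (s * σ t + u + v)) →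
      G 0 s * G 0 t = G 0 (s + t) * 1 := fun {G} hm => by rw [mul_one, hm]; simp
  have hv : ∀ {G : K → K → GL (T4).I K}, (∀ s u t v, G s u * G t v = G (s + t) (s * σ t + u + v)) →
      G s 0 * G t 0 = G (s + t) 0 * G 0 (s * σ t) := fun {G} hm => by rw [hm, hm]; simp
  fin_cases k
  · exact ⟨1, one_mem _, hu (mul4 h)⟩
  · exact ⟨1, one_mem _, hu (mul6 h)⟩
  · exact ⟨1, one_mem _, (mul5 h s t).trans (mul_one _).symm⟩
  · exact ⟨1, one_mem _, (mul3 h s t).trans (mul_one _).symm⟩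
  · exact ⟨1, one_mem _, hu (mul2 h)⟩
  · exact ⟨1, one_mem _, (mul7 h s t).trans (mul_one _).symm⟩
  · exact ⟨_, mem_fam 0 (by decide) _, hv (mul4 h)⟩
  · exact ⟨_, mem_fam 1 (by decide) _, hv (mul6 h)⟩
  · exact ⟨_, mem_fam 4 (by decide) _, hv (mul2 h)⟩
  · exact ⟨1, one_mem _, hu (mul8 h)⟩
  · exact ⟨_, mem_fam 9 (by decide) _, hv (mul8 h)⟩
  · exact ⟨1, one_mem _, (mul1 h s t).trans (mul_one _).symm⟩

include hK in
theorem normalizer_step (k : Fin 12) (t : K) :
    gF σ k t ∈ Subgroup.normalizer (Gl (gF σ) k.val : Set (GL (T4).I K)) :=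
  normalizer_Gl _ le_rfl t fun i hi u => bracket_of_rules _ (rules (hσ hK)) i k hi t u

/-- The elements of a step are products. -/
theorem Gl_succ_le {G : Type*} [Group G] {F : Type*} [AddCommGroup F] {n : ℕ} {g : Fin n → F → G}
    (k : Fin n) (hadd : ∀ s t, ∃ r ∈ Gl g k.val, g k s * g k t = g k (s + t) * r)
    (hN : ∀ t, g k t ∈ Subgroup.normalizer (Gl g k.val : Set G)) :
    ∀ x ∈ Gl g (k.val + 1), ∃ t, ∃ v ∈ Gl g k.val, x = g k t * v := by
  have g0 : g k 0 ∈ Gl g k.val := by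
    obtain ⟨r, hr, e⟩ := hadd 0 0
    rw [add_zero, mul_right_inj] at e
    exact e ▸ hr
  intro x hx
  induction hx using Subgroup.closure_induction with
  | mem x hx =>
    obtain ⟨i, hi, s, rfl⟩ := hx
    rcases Nat.lt_or_ge i.val k.val with h | h
    · exact ⟨0, (g k 0)⁻¹ * g i s, mul_mem (inv_mem g0) (mem_Gl g h s), by group⟩
    · obtain rfl : i = k := Fin.ext (by omega)
      exact ⟨s, 1, one_mem _, (mul_one _).symm⟩
  | one => exact ⟨0, (g k 0)⁻¹, inv_mem g0, by group⟩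
  | mul a b _ _ ha hb =>
    obtain ⟨t, v, hv, rfl⟩ := ha
    obtain ⟨t', v', hv', rfl⟩ := hb
    obtain ⟨r, hr, e⟩ := hadd t t'
    refine ⟨t + t', r * ((g k t')⁻¹ * v * (g k t')⁻¹⁻¹) * v',
      mul_mem (mul_mem hr (conj_mem_of_normalizer (inv_mem (hN t')) hv)) hv', ?_⟩
    rw [show g k (t + t') * (r * ((g k t')⁻¹ * v * (g k t')⁻¹⁻¹) * v') =
      g k (t + t') * r * ((g k t')⁻¹ * v * (g k t')⁻¹⁻¹) * v' by group, ← e]; group
  | inv a _ ha =>
    obtain ⟨t, v, hv, rfl⟩ := ha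
    obtain ⟨r, hr, e⟩ := hadd t (-t)
    rw [add_neg_cancel] at e
    refine ⟨-t, r⁻¹ * (g k 0)⁻¹ * (g k t * v⁻¹ * (g k t)⁻¹),
      mul_mem (mul_mem (inv_mem hr) (inv_mem g0)) (conj_mem_of_normalizer (hN t) (inv_mem hv)), ?_⟩
    rw [show r⁻¹ * (g k 0)⁻¹ = (g k t * g k (-t))⁻¹ by rw [e, mul_inv_rev]]
    group

include hK in
theorem Gl_top {x : GL (T4).I K} (hx : x ∈ (T4).rootGen K (fun r => (T4).half ≤ r)) (hf : x ∈ (SS).fix) :
    x ∈ Gl (gF σ) 12 := by
  obtain ⟨a, b, B, c, d, D, e, f, F, g, h, H, rfl⟩ := exists_coords hK hx hf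
  have hs := hσ hK
  exact mul_mem (mem1 hs _ (Or.inr (by norm_num))) (mul_mem (mem2 hs _ _ (Or.inr (by norm_num)) (Or.inr (by norm_num)))
    (mul_mem (mem3 hs _ (Or.inr (by norm_num))) (mul_mem (mem4 hs _ _ (Or.inr (by norm_num)) (Or.inr (by norm_num)))
      (mul_mem (mem5 hs _ (Or.inr (by norm_num))) (mul_mem (mem6 hs _ _ (Or.inr (by norm_num)) (Or.inr (by norm_num)))
        (mul_mem (mem7 hs _ (Or.inr (by norm_num))) (mem8 hs _ _ (Or.inr (by norm_num)) (Or.inr (by norm_num)))))))))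

include hK in
theorem fam_indep (k : Fin 12) (t : K) (ht : gF σ k t ∈ Gl (gF σ) k.val) : t = 0 := by
  by_contra hne
  set C : ℕ → ℕ := fun M => Nat.card (Gl (gF σ) M) with hC
  have hsurj : ∀ i : Fin 12, ∀ y : Gl (gF σ) (i.val + 1), ∃ p : K × Gl (gF σ) i.val,
      (⟨gF σ i p.1 * p.2.1, mul_mem (mem_Gl _ (Nat.lt_succ_self _) p.1) (Gl_mono _ (Nat.le_succ _) p.2.2)⟩ :
        Gl (gF σ) (i.val + 1)) = y := by
    intro i y
    obtain ⟨s, v, hv, e⟩ := Gl_succ_le i (fam_add hK i) (normalizer_step hK i) y.1 y.2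
    exact ⟨(s, ⟨v, hv⟩), Subtype.ext e.symm⟩
  have hstep : ∀ i : Fin 12, C (i.val + 1) ≤ 2 ^ (2 * m + 1) * C i.val := fun i => by
    have h := Nat.card_le_card_of_surjective _ (hsurj i)
    rwa [Nat.card_prod, hK] at h
  have hstrict : C (k.val + 1) < 2 ^ (2 * m + 1) * C k.val := by
    have hle := Nat.card_le_card_of_surjective _ (hsurj k)
    rw [Nat.card_prod, hK] at hle
    refine lt_of_le_of_ne hle fun heq => hne ?_
    have hb := (Nat.bijective_iff_surjective_and_card _).mpr ⟨hsurj k, by rw [Nat.card_prod, hK]; exact heq.symm⟩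
    have g0 : gF σ k 0 ∈ Gl (gF σ) k.val := by
      obtain ⟨r, hr, e⟩ := fam_add hK k 0 0
      rw [add_zero, mul_right_inj] at e
      exact e ▸ hr
    have := hb.1 (a₁ := (t, ⟨(gF σ k t)⁻¹, inv_mem ht⟩)) (a₂ := (0, ⟨(gF σ k 0)⁻¹, inv_mem g0⟩))
      (Subtype.ext (by simp only [mul_inv_cancel]))
    exact (Prod.ext_iff.1 this).1
  have hC0 : C 0 = 1 := by
    have : Gl (gF σ) 0 = ⊥ := eq_bot_iff.2 ((Subgroup.closure_le _).2 fun x ⟨i, hi, _⟩ => absurd hi (by omega))
    simp [hC, this]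
  have hlo : ∀ M, M ≤ 12 → C M ≤ (2 ^ (2 * m + 1)) ^ M ∧ (k.val < M → C M < (2 ^ (2 * m + 1)) ^ M) := by
    intro M
    induction M with
    | zero => intro _; rw [hC0, pow_zero]; exact ⟨le_rfl, fun h => absurd h (by omega)⟩
    | succ M ih =>
      intro hM
      obtain ⟨h1, h2⟩ := ih (by omega)
      have hs := hstep ⟨M, by omega⟩
      rw [pow_succ']
      refine ⟨hs.trans (Nat.mul_le_mul_left _ h1), fun h => ?_⟩
      rcases Nat.lt_or_ge k.val M with h' | h'
      · exact hs.trans_lt (Nat.mul_lt_mul_of_pos_left (h2 h') (pow_pos two_pos _))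
      · obtain rfl : M = k.val := by omega
        exact hstrict.trans_le (Nat.mul_le_mul_left _ h1)
  have h12 := (hlo 12 le_rfl).2 k.2
  rw [← Twist.F4.card_Upos hK] at h12
  refine absurd (Subgroup.card_le_of_le (H := (T4).datum.posUnipotent K ⊓ (SS).fix) (K := Gl (gF σ) 12) ?_)
    (not_le.2 h12)
  rintro x ⟨hx, hf⟩
  exact Gl_top hK (posUnipotent_rootGen (F := K) Data.F4.valid ▸ hx) hf

section Lifts

variable {hK} {E : Type*} [Group E] {π : E →* GL (T4).I K} (X : Cext hK π)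
include X

theorem Cext.lift {x : GL (T4).I K} (h : x ∈ (SS).fix) : ∃ e, π e = x :=
  MonoidHom.mem_range.1 (X.range_eq ▸ h)

/-- An additive family moved by a torus element commutes in the extension with a fixed element. -/
theorem Cext.cross {G : K → GL (T4).I K} (hadd : ∀ s t, G s * G t = G (s + t)) (hG : ∀ s, G s ∈ (SS).fix)
    {r : ℕ} {c d : Kˣ} (hc : lam m c d r ≠ 1)
    (hGt : ∀ s, tor m c d * G s = G ((lam m c d r : K) * s) * tor m c d) {y : GL (T4).I K}
    (hy : Commute (tor m c d) y) (hcom : ∀ s, Commute (G s) y) {s : K} {a b : E}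
    (ha : π a = G s) (hb : π b = y) : Commute a b := by
  choose l hl using fun s => X.lift (hG s)
  obtain ⟨h, hh⟩ := X.lift (tor_fix hK c d)
  have hk := X.ker_le
  let f : K → E := fun s => ⁅l s, b⁆
  have hf : ∀ s, π (f s) = 1 := fun s => bracket_ker hk (by rw [hl, hb]; exact hcom s)
  have hadd' : ∀ s t, f (s + t) = f t * f s := fun s t => by
    show ⁅l (s + t), b⁆ = _
    rw [bracket_congr hk (a' := l s * l t) (by rw [map_mul, hl, hl, hl, hadd]) rfl]
    exact bracket_mul_left hk (by rw [hl, hb]; exact hcom t)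
  set w : K := (lam m c d r : K)
  have hw : w - 1 ≠ 0 := sub_ne_zero.2 fun e => hc (Units.val_eq_one.1 e)
  have hinv : ∀ s, f (w * s) = f s := fun s => by
    show ⁅l (w * s), b⁆ = _
    rw [bracket_congr hk (a' := h * l s * h⁻¹) (b' := h * b * h⁻¹)
      (by rw [map_mul, map_mul, map_inv, hh, hl, hl, hGt, mul_inv_cancel_right])
      (by rw [map_mul, map_mul, map_inv, hh, hb, hy.eq, mul_inv_cancel_right]), ← conj_bracket hk,
      (commute_ker hk (hf s) h).eq, mul_inv_cancel_right]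
  have key : f s = 1 := by
    have e := hinv (s / (w - 1))
    rw [show w * (s / (w - 1)) = s / (w - 1) + s by field_simp; ring, hadd'] at e
    exact mul_eq_right.1 e
  rw [← commutatorElement_eq_one_iff_commute, ← key]
  exact bracket_congr hk (ha.trans (hl s).symm) rfl

/-- The lifts of the two families of the second root group commute. -/
theorem Cext.commute_bB (hm : 1 ≤ m) (t u : K) {x y : E} (hx : π x = G2 σ t 0) (hy : π y = G2 σ 0 u) :
    Commute x y := by
  have hs := hσ hK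
  have hk := X.ker_le
  obtain ⟨c1, d1, e1, e1'⟩ := exists_moving hK hm (r := 34) (r' := 33) (by decide +kernel)
  obtain ⟨c2, d2, e2, e2'⟩ := exists_moving hK hm (r := 38) (r' := 33) (by decide +kernel)
  obtain ⟨c3, d3, e3, e3'⟩ := exists_moving hK hm (r := 36) (r' := 38) (by decide +kernel)
  have hfix : ∀ (k : Fin 12) (c d : Kˣ), lam m c d (rootF k) = 1 → ∀ s, Commute (tor m c d) (gF σ k s) :=
    fun k c d h s => by
      show _ = _
      rw [tor_g hK, h, Units.val_one, one_mul]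
  obtain ⟨A, hA⟩ := X.lift (G1_fix hK u)
  obtain ⟨D, hD⟩ := X.lift (G4_fix hK 1 0)
  obtain ⟨C, hC⟩ := X.lift (G3_fix hK (t * 1))
  have hG1 : G1 σ u * G1 σ u = 1 := by rw [mul1 hs, CharTwo.add_self_eq_zero, G1_zero]
  have hG1i : (G1 σ u)⁻¹ = G1 σ u := inv_eq_of_mul_eq_one_right hG1
  have hB : π y = π ⁅A, D⁆ := by
    rw [hy, map_commutatorElement, hA, hD, commutatorElement_def, hG1i]
    have e := c14 hs u 1 0
    rw [mul_one] at e
    rw [show G1 σ u * G4 σ 1 0 * G1 σ u = G1 σ u * (G4 σ 1 0 * G1 σ u) from mul_assoc _ _ _, e,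
      ← mul_assoc, hG1, one_mul, mul_inv_cancel_right]
  refine D4Multiplier.commute_congr hk (a' := x) rfl hB ?_
  have hxA : Commute A x := X.cross (mul1 hs) (G1_fix hK) e1' (tor_g hK c1 d1 11) (hfix 8 c1 d1 e1 t)
    (fun s => (c12 hs s t 0).symm) hA hx
  have hAC : Commute A C := X.cross (mul1 hs) (G1_fix hK) e2' (tor_g hK c2 d2 11) (hfix 3 c2 d2 e2 _)
    (fun s => (c13 hs s _).symm) hA hC
  have hCB : Commute C ⁅A, D⁆ := X.cross (mul3 hs) (G3_fix hK) e3' (tor_g hK c3 d3 3) (hfix 4 c3 d3 e3 u)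
    (fun s => c23 hs 0 u s) hC (hB.symm.trans hy)
  have hD' : π (x⁻¹ * D * x) = π (C * D) := by
    rw [map_mul, map_mul, map_inv, map_mul, hx, hD, hC, mul_assoc, c24 hs t 0 1 0, inv_mul_cancel_left]
  have h1 : x⁻¹ * ⁅A, D⁆ * x = ⁅A, D⁆ := by
    have e : x⁻¹ * ⁅A, D⁆ * x = ⁅x⁻¹ * A * x, x⁻¹ * D * x⁆ := by
      simp only [commutatorElement_def]; group
    rw [e, show x⁻¹ * A * x = A by rw [mul_assoc, hxA.eq, inv_mul_cancel_left],
      bracket_congr hk rfl hD',
      show ⁅A, C * D⁆ = ⁅A, C⁆ * (C * ⁅A, D⁆ * C⁻¹) by simp only [commutatorElement_def]; group,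
      commutatorElement_eq_one_iff_commute.2 hAC, one_mul, hCB.eq, mul_inv_cancel_right]
  show x * ⁅A, D⁆ = ⁅A, D⁆ * x
  conv_lhs => rw [← h1]
  group

/-- Commutation of lifts is transported by conjugation. -/
theorem Cext.transport {w : GL (T4).I K} (hw : w ∈ (SS).fix) {p q p' q' : GL (T4).I K} (hp : w * p = p' * w)
    (hq : w * q = q' * w) (h : ∀ a b : E, π a = p → π b = q → Commute a b) {a b : E} (ha : π a = p')
    (hb : π b = q') : Commute a b := by
  obtain ⟨v, hv⟩ := X.lift hw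
  have key := h (v⁻¹ * a * v) (v⁻¹ * b * v)
    (by rw [map_mul, map_mul, map_inv, hv, ha, mul_assoc, ← hp, inv_mul_cancel_left])
    (by rw [map_mul, map_mul, map_inv, hv, hb, mul_assoc, ← hq, inv_mul_cancel_left])
  have := (Commute.conj_iff v).2 key
  simpa [mul_assoc] using this

omit X [Finite K] [CharP K 2] in
theorem kill_tab : ∀ j k : Fin 12, j < k →
    (let A0 := (T4).ca 0 (rootF j); let A3 := (T4).ca 3 (rootF j); let A1 := (T4).ca 1 (rootF j)
      let A2 := (T4).ca 2 (rootF j); let B0 := (T4).ca 0 (rootF k); let B3 := (T4).ca 3 (rootF k)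
      let B1 := (T4).ca 1 (rootF k); let B2 := (T4).ca 2 (rootF k)
      (2 * ((B0 * A1 - B1 * A0) + 2 * (B3 * A2 - B2 * A3)) ^ 2 -
        (2 * (B0 * A2 + B3 * A1 - B1 * A3 - B2 * A0)) ^ 2).natAbs ∈ [1, 2, 4, 8]) ∨
      ((j.val, k.val) ∈ [(0, 6), (1, 7), (4, 8), (9, 10)]) := by
  decide +kernel

omit X [Finite K] [CharP K 2] in
theorem self_tab : ∀ k : Fin 12,
    (2 * (T4).ca 3 (rootF k) ^ 2 - (T4).ca 0 (rootF k) ^ 2).natAbs ∈ [1, 2, 4, 8] ∨
      (2 * (T4).ca 2 (rootF k) ^ 2 - (T4).ca 1 (rootF k) ^ 2).natAbs ∈ [1, 2, 4, 8] := by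
  decide +kernel

theorem Cext.kills (hm : 1 ≤ m) (j k : Fin 12) (hjk : j ≤ k) :
    Kills π (gF σ) (fun (i : Kˣ × Kˣ) k => (lam m i.1 i.2 (rootF k) : K)) j k := by
  rcases hjk.lt_or_eq with hlt | rfl
  · rcases kill_tab j k hlt with h | h
    · obtain ⟨c, d, e, e'⟩ := exists_moving hK hm h
      exact Or.inl ⟨(c, d), Or.inl ⟨by simp [e], fun h => e' (Units.val_eq_one.1 h)⟩⟩
    · refine Or.inr (Or.inr fun t u a b ha hb => ?_)
      have hb2 : ∀ {a b : E} {s v : K}, π a = G2 σ s 0 → π b = G2 σ 0 v → Commute a b :=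
        fun ha hb => X.commute_bB hm _ _ ha hb
      have hf6 : ∀ {a b : E} {s v : K}, π a = G6 σ s 0 → π b = G6 σ 0 v → Commute a b :=
        fun ha hb => X.transport (w8_fix hK) (w8_G2 σ _ _) (w8_G2 σ _ _) (fun _ _ => hb2) ha hb
      simp only [List.mem_cons, Prod.mk.injEq, List.not_mem_nil, or_false] at h
      rcases h with ⟨hj, hk⟩ | ⟨hj, hk⟩ | ⟨hj, hk⟩ | ⟨hj, hk⟩
      · obtain rfl : j = 0 := Fin.ext hj
        obtain rfl : k = 6 := Fin.ext hk
        exact X.transport (w1_fix hK) (w1_G6 σ t 0) (w1_G6 σ 0 u) (fun _ _ => hf6) ha hb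
      · obtain rfl : j = 1 := Fin.ext hj
        obtain rfl : k = 7 := Fin.ext hk
        exact hf6 ha hb
      · obtain rfl : j = 4 := Fin.ext hj
        obtain rfl : k = 8 := Fin.ext hk
        exact hb2 ha hb
      · obtain rfl : j = 9 := Fin.ext hj
        obtain rfl : k = 10 := Fin.ext hk
        exact X.transport (w1_fix hK) (w1_G2 σ t 0) (w1_G2 σ 0 u) (fun _ _ => hb2) ha hb
  · refine Or.inr (Or.inl ⟨rfl, fun l hl => ?_⟩)
    obtain ⟨c, d, e⟩ := lam_surjective hK (self_tab j) (Units.mk0 l hl)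
    exact ⟨(c, d), by show ((lam m c d (rootF j) : Kˣ) : K) = l; rw [e, Units.val_mk0]⟩

/-- The commutators of the preimage of the positive part meet the kernel trivially. -/
theorem Cext.pos_trivial [Finite E] (hm : 1 ≤ m) {z : E} (hz : π z = 1)
    (hd : z ∈ (commutator (((SS).fix ⊓ (T4).rootGen K (fun r => (T4).half ≤ r)).comap π)).map
      (((SS).fix ⊓ (T4).rootGen K (fun r => (T4).half ≤ r)).comap π).subtype) : z = 1 := by
  have hs := hσ hK
  have F : Fam (gF σ) (fun i : Kˣ × Kˣ => tor m i.1 i.2)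
      (fun (i : Kˣ × Kˣ) k => (lam m i.1 i.2 (rootF k) : K)) := by
    refine ⟨fam_add hK, fun i k t => tor_g hK i.1 i.2 k t, fun i j => tor_comm _ _ _ _, fun k => ?_,
      rules hs, fam_indep hK⟩
    obtain ⟨g, hg⟩ := IsCyclic.exists_ofOrder_eq_natCard (α := Kˣ)
    obtain ⟨c, d, e⟩ := lam_surjective hK (self_tab k) g
    refine ⟨(c, d), fun h => ?_⟩
    rw [← e, Units.val_eq_one.1 h, orderOf_one, Nat.card_units, hK] at hg
    have : 2 ^ 3 ≤ 2 ^ (2 * m + 1) := Nat.pow_le_pow_right (by norm_num) (by omega)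
    omega
  have hcard : 4 < Nat.card K := by
    rw [hK]
    exact lt_of_lt_of_le (by norm_num) (Nat.pow_le_pow_right (n := 2) (by norm_num) (show 3 ≤ 2 * m + 1 by omega))
  obtain ⟨S, hS, hle⟩ := exists_lift_subgroup F X.ker_le
    (fun k t => X.range_eq.symm ▸ gF_fix hK k t) (fun i => X.range_eq.symm ▸ tor_fix hK i.1 i.2)
    CharTwo.two_eq_zero hcard (X.kills hm)
  refine commutator_inf_ker X.ker_le hS (fun x hx => hle ?_) hz hd
  obtain ⟨h1, h2⟩ := Subgroup.mem_inf.1 hx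
  exact Gl_top hK h2 h1

end Lifts

end CfsgLib.KnownA.F4Multiplier
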