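import Cfsg.Agent.Lib.KnownA.F4Multiplier.Section
import Cfsg.Agent.Lib.KnownA.F4Multiplier.PosPart
import Cfsg.Agent.Lib.KnownA.TorusSylow

/-!
The two rank one subgroups of ²F₄(q): involutions over the longest elements, disjoint tori, and cyclic
subgroups of odd prime power order, seen on a block of root vectors.
-/

set_option autoImplicit false
set_option maxRecDepth 20000
set_option maxHeartbeats 1000000
set_option linter.all false
set_option Elab.async false

namespace CfsgLib.KnownA.F4Multiplier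

open CfsgLib.Chevalley CfsgLib.Chevalley.Tbl CfsgLib.F4Inv
open scoped Matrix

local notation "T4" => Data.F4.tbl

/-! ### A group generated by two involutions -/

theorem dihedral_isPGroup {G : Type*} [Group G] {a b : G} (ha : a * a = 1) (hb : b * b = 1) {e : ℕ}
    (he : 1 ≤ e) (hc : (a * b) ^ 2 ^ e = 1) : IsPGroup 2 (Subgroup.closure {a, b} : Subgroup G) := by
  set c := a * b with hcdef
  have ai : a⁻¹ = a := inv_eq_of_mul_eq_one_right ha
  have bi : b⁻¹ = b := inv_eq_of_mul_eq_one_right hb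
  have flip : a * c * a⁻¹ = c⁻¹ := by rw [hcdef, mul_inv_rev, ai, bi, ← mul_assoc, ha, one_mul]
  have flipk : ∀ k : ℤ, a * c ^ k * a⁻¹ = c ^ (-k) := fun k => by
    rw [← conj_zpow, flip, inv_zpow, _root_.zpow_neg]
  have key : ∀ g ∈ Subgroup.closure {a, b}, ∃ k : ℤ, g = c ^ k ∨ g = c ^ k * a := by
    have hA : ∀ g, (∃ k : ℤ, g = c ^ k ∨ g = c ^ k * a) → ∃ k : ℤ, a * g = c ^ k ∨ a * g = c ^ k * a := by
      rintro g ⟨k, rfl | rfl⟩
      · exact ⟨-k, Or.inr (by rw [← flipk k]; group)⟩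
      · exact ⟨-k, Or.inl (by rw [← flipk k, ai]; group)⟩
    have hB : ∀ g, (∃ k : ℤ, g = c ^ k ∨ g = c ^ k * a) → ∃ k : ℤ, b * g = c ^ k ∨ b * g = c ^ k * a := by
      intro g hg
      obtain ⟨k, hk⟩ := hA _ (show ∃ k : ℤ, c * g = c ^ k ∨ c * g = c ^ k * a by
        obtain ⟨k, rfl | rfl⟩ := hg
        exacts [⟨1 + k, Or.inl (zpow_one_add c k).symm⟩, ⟨1 + k, Or.inr (by rw [zpow_one_add]; group)⟩])
      rw [show a * (c * g) = b * g by rw [hcdef, ← mul_assoc, ← mul_assoc, ha, one_mul]] at hk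
      exact ⟨k, hk⟩
    intro g hg
    induction hg using Subgroup.closure_induction_left with
    | one => exact ⟨0, Or.inl (zpow_zero c).symm⟩
    | mul_left x hx y _ ih => rcases hx with rfl | rfl; exacts [hA y ih, hB y ih]
    | inv_mul_cancel x hx y _ ih =>
      rcases hx with rfl | rfl
      · rw [ai]; exact hA y ih
      · rw [bi]; exact hB y ih
  rintro ⟨g, hg⟩
  refine ⟨e, Subtype.ext ?_⟩
  show g ^ 2 ^ e = 1
  obtain ⟨k, rfl | rfl⟩ := key g hg
  · rw [← zpow_natCast, ← zpow_mul, mul_comm, zpow_mul, zpow_natCast, hc, one_zpow]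
  · have h2 : (c ^ k * a) ^ 2 = 1 := by
      rw [pow_two, show c ^ k * a * (c ^ k * a) = c ^ k * (a * c ^ k * a⁻¹) * (a * a) by group, flipk,
        ← zpow_add, add_neg_cancel, zpow_zero, ha, one_mul]
    obtain ⟨f, rfl⟩ := Nat.exists_eq_add_of_le he
    rw [pow_add, pow_one, pow_mul, h2, one_pow]

/-! ### The two parameters -/

theorem supp_mul {K : Type*} [Field K] (m : ℕ) (c c' d d' : Kˣ) :
    Twist.F4.supp m (c * c') (d * d') = Twist.F4.supp m c d * Twist.F4.supp m c' d' :=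
  funext fun (i : Fin 4) => match i with
    | 0 => mul_pow c c' (2 ^ m)
    | 1 => mul_pow d d' (2 ^ m)
    | 2 => rfl
    | 3 => rfl

theorem supp_one {K : Type*} [Field K] (m : ℕ) : Twist.F4.supp (K := K) m 1 1 = 1 :=
  funext fun (i : Fin 4) => match i with
    | 0 => one_pow (2 ^ m)
    | 1 => one_pow (2 ^ m)
    | 2 => rfl
    | 3 => rfl

/-! ### Blocks of matrices -/

section Block

variable {I : Type*} [Fintype I] [DecidableEq I] {K : Type*} [Field K] {n : ℕ}

/-- The invertible matrices preserving the span of some coordinate vectors. -/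
def blockStab (b : Fin n → I) : Submonoid (GL I K) where
  carrier := {g | ∀ s row, (∀ i, b i ≠ row) → (g : Matrix I I K) row (b s) = 0}
  one_mem' := fun s row h => by rw [Units.val_one, Matrix.one_apply_ne (Ne.symm (h s))]
  mul_mem' := fun {g g'} hg hg' s row h => by
    rw [Units.val_mul, Matrix.mul_apply]
    refine Finset.sum_eq_zero fun j _ => ?_
    by_cases hj : ∃ i, b i = j
    · obtain ⟨i, rfl⟩ := hj; rw [hg i row h, zero_mul]
    · rw [hg' s j (fun i e => hj ⟨i, e⟩), mul_zero]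

/-- The action on the span. -/
def blockHom {b : Fin n → I} (hb : Function.Injective b) :
    ↥(blockStab (K := K) b) →* Matrix (Fin n) (Fin n) K where
  toFun g := Matrix.of fun i j => ((g : GL I K) : Matrix I I K) (b i) (b j)
  map_one' := by
    ext i j
    simp [Matrix.one_apply, hb.eq_iff]
  map_mul' g g' := by
    ext i j
    simp only [Matrix.of_apply, Submonoid.coe_mul, Units.val_mul, Matrix.mul_apply]
    refine (Finset.sum_of_injOn b hb.injOn (fun _ _ => Finset.mem_coe.2 (Finset.mem_univ _))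
      (fun j' _ hj => ?_) fun _ _ => rfl).symm
    rw [g'.2 j j' fun k e => hj ⟨k, Finset.mem_coe.2 (Finset.mem_univ _), e⟩, mul_zero]

end Block

variable {K : Type*} [Field K] [CharP K 2] [Finite K] {m : ℕ} (hK : Nat.card K = 2 ^ (2 * m + 1))

local notation "SS" => Twist.F4.S hK
local notation "OO" => Twist.F4.O hK

/-- The roots of an orbit group, and its positive ones. -/
def rootsL : Fin 2 → List ℕ := ![[24, 33, 14, 23], [25, 27, 28, 30, 20, 22, 19, 17]]

/-- The positive roots of an orbit group. -/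
def rootsU : Fin 2 → List ℕ := ![[24, 33], [25, 27, 28, 30]]

theorem rootsL_neg : ∀ j : Fin 2, ∀ r < 48, (r < 24 → 24 ≤ (T4).actWord (Data.F4.orbWords.getD j.val []) r →
    r ∈ rootsL j) ∧ (r ∈ rootsU j → r ∈ rootsL j) := by decide +kernel

include hK

theorem negSet_rootsU (j : Fin 2) {r : ℕ} (h : (T4).negSet ((SS).wJ (OO) j) r) : r ∈ rootsU j := by
  match j with
  | 0 => exact ((Twist.F4.data hK).negSet_iff Twist.F4.chk_orbits (0 : Fin 2) Twist.F4.negList0 r).1 h
  | 1 => exact ((Twist.F4.data hK).negSet_iff Twist.F4.chk_orbits (1 : Fin 2) Twist.F4.negList1 r).1 h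

theorem Uj_le_roots (j : Fin 2) : Uj SS (OO) j ≤ (T4).rootGen K (· ∈ rootsU j) :=
  inf_le_right.trans (rootGen_mono fun _ _ h => negSet_rootsU hK j h)

theorem Lj_le_roots (j : Fin 2) : Lj SS (OO) j ≤ (T4).rootGen K (· ∈ rootsL j) := by
  have hh : (T4).half = 24 := by decide +kernel
  have hn : (T4).n = 48 := by decide +kernel
  refine sup_le ((Uj_le_roots hK j).trans (rootGen_mono fun r hr h => (rootsL_neg j r (hn ▸ hr)).2 h)) ?_
  refine inf_le_right.trans (rootGen_mono fun r hr h => ?_)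
  obtain ⟨hr', h1, h2⟩ := h
  refine (rootsL_neg j r (hn ▸ hr)).1 (hh ▸ h1) ?_
  have := (Twist.F4.data hK).orbits_wJ Twist.F4.chk_orbits j ⟨r, hr'⟩
  rw [← this]
  exact hh ▸ h2

/-! ### The involutions -/

theorem exists_inv (j : Fin 2) : ∃ u ∈ Uj SS (OO) j, u ≠ 1 ∧ u * u = 1 := by
  have hT : (T4).Valid := Data.F4.valid
  match j with
  | 0 =>
    refine ⟨_, Twist.F4.pair_mem_Uw hK 1, fun h => ?_, ?_⟩
    · have := gprod_inj hT Data.F4.chkComm (L := [24, 33]) (by decide) (by decide +kernel)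
        (fun _ => (1 : K)) (fun _ => 0)
        (by simpa [Twist.F4.pair, gprod, xU_zero hT (lt48 (by norm_num : 24 < 48)),
          xU_zero hT (lt48 (by norm_num : 33 < 48))] using h) 24 (by simp)
      exact one_ne_zero this
    · have hi := Twist.F4.pair_inv hK (a := 33) (b := 24) (by simp) (1 : K)
      exact inv_eq_iff_mul_eq_one.1 hi
  | 1 =>
    refine ⟨_, Twist.F4.quad_mem_Uw hK 0 1, fun h => ?_, ?_⟩
    · have h0 : (2 * 2 ^ m) ≠ 0 := by positivity
      have := gprod_inj hT Data.F4.chkComm (L := [25, 27, 28, 30]) (by decide) (by decide +kernel)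
        (fun r => if r = 28 ∨ r = 30 then (1 : K) else 0) (fun _ => 0)
        (by simpa [Twist.F4.quad, gprod, h0, xU_zero hT (lt48 (by norm_num : 25 < 48)),
          xU_zero hT (lt48 (by norm_num : 27 < 48)), xU_zero hT (lt48 (by norm_num : 28 < 48)),
          xU_zero hT (lt48 (by norm_num : 30 < 48))] using h) 28 (by simp)
      simp at this
    · rw [Twist.F4.quad_mul hK Twist.F4.quadPos]
      simp [CharTwo.add_self_eq_zero, Twist.F4.quad_zero hK Twist.F4.quadPos]

theorem exists_repJ (j : Fin 2) : ∃ n ∈ Lj SS (OO) j, n ∈ (T4).datum.monomialSubgroup K ∧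
    (T4).Mono n ((SS).wJ (OO) j) ∧ n * n = 1 := by
  obtain ⟨u, hu, hu1, hu2⟩ := exists_inv hK j
  set w := Twist.rep (Twist.F4.hV hK) j
  refine exists_inv_rep (S := SS) (O := OO) j (conj_Uj (S := SS) (O := OO) j (Twist.rep_fix (Twist.F4.hV hK) j)
    (Twist.rep_mono (Twist.F4.hV hK) j) hu) (fun h => hu1 (conj_eq_one_iff.1 h)) ?_
  show w * u * w⁻¹ * (w * u * w⁻¹) = 1
  rw [show w * u * w⁻¹ * (w * u * w⁻¹) = w * (u * u) * w⁻¹ by group, hu2, mul_one, mul_inv_cancel]

/-- The representatives. -/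
noncomputable def repJ (j : Fin (OO).o) : GL (T4).I K := (exists_repJ hK j).choose

theorem repJ_mem (j : Fin (OO).o) : repJ hK j ∈ Lj SS (OO) j := (exists_repJ hK j).choose_spec.1

theorem repJ_mono (j : Fin (OO).o) :
    repJ hK j ∈ (T4).datum.monomialSubgroup K ∧ (T4).Mono (repJ hK j) ((SS).wJ (OO) j) :=
  ⟨(exists_repJ hK j).choose_spec.2.1, (exists_repJ hK j).choose_spec.2.2.1⟩

theorem repJ_sq (j : Fin (OO).o) : repJ hK j * repJ hK j = 1 := (exists_repJ hK j).choose_spec.2.2.2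

omit hK in
theorem half_turn : ∀ r < 48, (((T4).actWord (Data.F4.orbWords.getD 0 [])) ∘
    ((T4).actWord (Data.F4.orbWords.getD 1 [])))^[4] r = (T4).neg r := by decide +kernel

theorem repJ_dihedral : IsPGroup 2 (Subgroup.closure (Set.range (repJ hK))) := by
  have hT := (SS).valid
  have hn : (T4).n = 48 := by decide +kernel
  let i0 : Fin (OO).o := (0 : Fin 2)
  let i1 : Fin (OO).o := (1 : Fin 2)
  set a := repJ hK i0 with ha
  set b := repJ hK i1 with hb
  set w := (SS).wJ (OO) i0 * (SS).wJ (OO) i1 with hw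
  have hmab : (T4).Mono (a * b) w := (repJ_mono hK i0).2.mul (repJ_mono hK i1).2
  have hpow : ∀ k : ℕ, 1 ≤ k → (T4).Mono ((a * b) ^ k) (w ^ k) := by
    intro k hk
    induction k, hk using Nat.le_induction with
    | base => rw [pow_one, pow_one]; exact hmab
    | succ k _ ih => rw [pow_succ, pow_succ]; exact ih.mul hmab
  have hneg : ∀ r : Fin (T4).n, ((w ^ 4) r).val = (T4).neg r := by
    intro r
    rw [← half_turn r.val (hn ▸ r.2)]
    have step : ∀ s : Fin (T4).n, (w s).val = (T4).actWord (Data.F4.orbWords.getD 0 [])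
        ((T4).actWord (Data.F4.orbWords.getD 1 []) s) := fun s => by
      rw [hw, Equiv.Perm.mul_apply]
      refine ((Twist.F4.data hK).orbits_wJ Twist.F4.chk_orbits (0 : Fin 2) _).trans ?_
      exact congrArg _ ((Twist.F4.data hK).orbits_wJ Twist.F4.chk_orbits (1 : Fin 2) s)
    have hiter : ∀ (k : ℕ) (s : Fin (T4).n), ((w ^ k) s).val =
        (((T4).actWord (Data.F4.orbWords.getD 0 [])) ∘ ((T4).actWord (Data.F4.orbWords.getD 1 [])))^[k] s := by
      intro k
      induction k with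
      | zero => intro s; simp
      | succ k ih => intro s; rw [pow_succ', Equiv.Perm.mul_apply, step, ih, Function.iterate_succ_apply']; rfl
    exact hiter 4 r
  set n4 := (a * b) ^ 4
  set t := (a * b) ^ 8 with ht
  have hmem : t ∈ (T4).datum.monomialSubgroup K :=
    pow_mem (mul_mem (repJ_mono hK i0).1 (repJ_mono hK i1).1) _
  have hw8 : w ^ 8 = 1 := by
    refine Equiv.ext fun r => Fin.ext ?_
    rw [show (8 : ℕ) = 4 + 4 from rfl, pow_add, Equiv.Perm.mul_apply, hneg, hneg, neg_neg' r.2]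
    rfl
  have hdiag := mem_diag_of_mono_one hT hmem (by rw [← hw8]; exact hpow 8 (by norm_num))
  obtain ⟨χ, hχ, htχ⟩ := diag_exists_char hT hdiag
  have hcomm : n4 * t = t * n4 := by simp only [n4, ht, ← pow_add]
  have h1 : ∀ r < (T4).n, χ r = 1 := by
    intro r hr
    obtain ⟨c, hc⟩ := (hpow 4 (by norm_num)).conj ⟨r, hr⟩
    have hcj := (hc 1).1
    have hpr : (((w ^ 4) ⟨r, hr⟩).val) = (T4).neg r := hneg ⟨r, hr⟩
    simp only [hpr, mul_one] at hcj
    have hcj' := (hc (χ r : K)).1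
    simp only [hpr] at hcj'
    have e : n4 * ((T4).dU χ * (T4).xU K r 1) = n4 * ((T4).xU K r (χ r : K) * (T4).dU χ) := by
      rw [dU_conj_X hT hχ hr, mul_one]
    rw [← htχ, ← mul_assoc, hcomm, mul_assoc, show n4 * (T4).xU K r 1 = _ from hcj, ← mul_assoc, htχ,
      dU_conj_X hT hχ (neg_lt' hr), ← htχ, mul_assoc, ← hcomm, ← mul_assoc n4 ((T4).xU K r _),
      show n4 * (T4).xU K r (χ r : K) = _ from hcj', mul_assoc] at e
    have e' := xU_inj hT (neg_lt' hr) (mul_right_cancel e)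
    rw [hχ.neg r hr, mul_comm (c : K)] at e'
    have h3 : (χ r)⁻¹ = χ r := Units.ext (mul_right_cancel₀ c.ne_zero e')
    have h4 : ((χ r : K) - 1) * ((χ r : K) - 1) = 0 := by
      have h5 : (χ r : K) * (χ r : K) = 1 := by
        rw [← Units.val_mul]; nth_rewrite 1 [← h3]; simp
      linear_combination h5 - ((χ r : K) - 1) * CharTwo.two_eq_zero (R := K)
    exact Units.ext (sub_eq_zero.1 (mul_self_eq_zero.1 h4))
  have ht1 : (a * b) ^ 2 ^ 3 = 1 := by
    show t = 1
    rw [htχ, dU_congr (ψ := (1 : ℕ → Kˣ)) h1, dU_one]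
  refine (dihedral_isPGroup (repJ_sq hK i0) (repJ_sq hK i1) (by norm_num) ht1).to_le
    (Subgroup.closure_mono ?_)
  rintro _ ⟨j, rfl⟩
  rcases (show ∀ j : Fin 2, j = 0 ∨ j = 1 by decide) j with rfl | rfl
  exacts [Or.inl rfl, Or.inr rfl]

/-! ### The tori -/

theorem Hj_tor (j : Fin 2) {h : GL (T4).I K} (hh : h ∈ Hj SS (OO) j) :
    ∃ c d : Kˣ, h = tor m c d ∧ (j = 0 → d = 1) ∧ (j = 1 → c = 1) := by
  obtain ⟨f, hf, rfl⟩ := (Twist.F4.diag_fix hK).le (Subgroup.mem_inf.2 ⟨hh.2, Lj_le (S := SS) (O := OO) j hh.1⟩)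
  obtain ⟨h0, h1⟩ := (Twist.F4.mem_tauFix hK).1 hf
  set c := f (3 : Fin 4)
  set d := f (2 : Fin 4)
  have e : f = Twist.F4.supp m c d :=
    funext fun (i : Fin 4) => match i with
      | 0 => h0
      | 1 => h1
      | 2 => rfl
      | 3 => rfl
  subst_vars
  refine ⟨c, d, by rw [tor, ← e], ?_⟩
  have key : ∀ j : Fin 2, ∀ r ∈ rootsL j, ∀ z ∈ (![[39], [47]] : Fin 2 → List ℕ) j,
      (Nat.blt r (T4).n && Nat.blt z (T4).n && !Nat.beq z ((T4).neg r) &&
        ((T4).commT r z).all fun c => decide (c.2.1 % 2 = 0)) = true := by decide +kernel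
  have hcomm : ∀ z ∈ (![[39], [47]] : Fin 2 → List ℕ) j, z < 48 → lam m c d z = 1 := by
    intro z hz hz48
    have hle : Lj SS (OO) j ≤ Subgroup.centralizer {(T4).xU K z 1} :=
      (Lj_le_roots hK j).trans (rootGen_le fun r _ hr t =>
        Subgroup.mem_centralizer_singleton_iff.2 (Twist.F4.commute_of hK (key j r hr z hz) t 1).eq)
    have h := Subgroup.mem_centralizer_singleton_iff.1 (hle hh.1)
    rw [e] at h
    have h' : tor m c d * (T4).xU K z 1 = (T4).xU K z 1 * tor m c d := h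
    have := tor_x (m := m) c d hz48 (1 : K) 1
    rw [mul_one, mul_one] at this
    simp only [mul_one] at this
    rw [this] at h'
    exact Units.ext (xU_inj Data.F4.valid (lt48 hz48) (mul_right_cancel h'))
  have ca39 : (T4).ca 0 39 = 0 ∧ (T4).ca 3 39 = 0 ∧ (T4).ca 1 39 = -1 ∧ (T4).ca 2 39 = 1 := by decide +kernel
  have ca47 : (T4).ca 0 47 = 0 ∧ (T4).ca 3 47 = 1 ∧ (T4).ca 1 47 = 0 ∧ (T4).ca 2 47 = 0 := by decide +kernel
  refine ⟨fun hj => ?_, fun hj => ?_⟩ <;> subst hj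
  · have h := hcomm 39 (by simp) (by norm_num)
    obtain ⟨a0, a3, a1, a2⟩ := ca39
    refine eq_one_of_norm hK d (P := 1) (Q := -1) (by decide) ?_
    simpa [lam, expC, expD, a0, a3, a1, a2, add_comm] using h
  · have h := hcomm 47 (by simp) (by norm_num)
    obtain ⟨a0, a3, a1, a2⟩ := ca47
    simpa [lam, expC, expD, a0, a3, a1, a2] using h

theorem Hj_pow (j : Fin 2) {h : GL (T4).I K} (hh : h ∈ Hj SS (OO) j) :
    h ^ (2 ^ (2 * m + 1) - 1) = 1 := by
  obtain ⟨c, d, rfl, -⟩ := Hj_tor hK j hh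
  rw [tor, ← map_pow]
  refine (congrArg (torusHom T4 K) (funext fun (i : Fin 4) => ?_)).trans (map_one _)
  show (Twist.F4.supp m c d i) ^ _ = 1
  exact units_pow_card hK _

theorem indep : Hj SS (OO) (0 : Fin 2) ⊓ Hj SS (OO) (1 : Fin 2) = ⊥ := by
  rw [eq_bot_iff]
  rintro h ⟨h0, h1⟩
  obtain ⟨c, d, rfl, hd, -⟩ := Hj_tor hK 0 h0
  obtain ⟨c', d', e, -, hc⟩ := Hj_tor hK 1 h1
  have := torusHom_injective_of_smith Data.F4.valid Data.F4.chkSmith (by decide) e
  have hc' : c = c' := congrFun this (3 : Fin 4)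
  show tor m c d = 1
  rw [hc', hc rfl, hd rfl, tor, supp_one, map_one]

theorem Hj_cyclic (j : Fin 2) : IsCyclic (Hj SS (OO) j) := by
  let s0 : Kˣ →* (Fin (T4).rank → Kˣ) := MonoidHom.mk' (fun c => Twist.F4.supp m c 1) fun x y =>
    (congrArg (Twist.F4.supp m (x * y)) (one_mul (1 : Kˣ)).symm).trans (supp_mul m x y 1 1)
  let s1 : Kˣ →* (Fin (T4).rank → Kˣ) := MonoidHom.mk' (fun d => Twist.F4.supp m 1 d) fun x y =>
    (congrArg (fun c => Twist.F4.supp m c (x * y)) (one_mul (1 : Kˣ)).symm).trans (supp_mul m 1 1 x y)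
  let g : Kˣ →* GL (T4).I K := (torusHom T4 K).comp (if j = 0 then s0 else s1)
  have hle : Hj SS (OO) j ≤ g.range := fun h hh => by
    obtain ⟨c, d, rfl, hd, hc⟩ := Hj_tor hK j hh
    rcases (show ∀ j : Fin 2, j = 0 ∨ j = 1 by decide) j with rfl | rfl
    · exact ⟨c, by simp [g, s0, tor, hd rfl]⟩
    · exact ⟨d, by simp [g, s1, tor, hc rfl]⟩
  haveI : IsCyclic g.range := isCyclic_of_surjective g.rangeRestrict g.rangeRestrict_surjective
  exact isCyclic_of_injective (Subgroup.inclusion hle) (Subgroup.inclusion_injective hle)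

/-! ### The cardinalities -/

omit hK in
/-- The exponent of the field order in an orbit group. -/
def expJ : Fin 2 → ℕ := ![1, 2]

theorem card_Uj (j : Fin 2) : Nat.card (Uj SS (OO) j) = (2 ^ (2 * m + 1)) ^ expJ j := by
  refine (Twist.F4.card_Uw hK _ ((SS).wJ_mem (OO) j)).2.trans (congrArg (HPow.hPow _) ?_)
  match j with
  | 0 => rw [Twist.F4.invN_wJ hK 0 Twist.F4.negList0 (by decide)]; rfl
  | 1 => rw [Twist.F4.invN_wJ hK 1 Twist.F4.negList1 (by decide)]; rfl

theorem Uj_isPGroup (j : Fin 2) : IsPGroup 2 (Uj SS (OO) j) :=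
  IsPGroup.of_card (n := (2 * m + 1) * expJ j) (by rw [card_Uj, ← pow_mul])

/-! ### Subgroups of odd prime power order -/

omit hK in
/-- The block of an orbit. -/
def blk : (j : Fin 2) → Fin (2 * expJ j) → Fin (T4).n
  | 0 => fun i => ⟨[34, 27].getD i.val 34, by fin_cases i <;> decide +kernel⟩
  | 1 => fun i => ⟨[37, 33, 34, 35].getD i.val 37, by fin_cases i <;> decide +kernel⟩

omit hK in
theorem blk_facts : ∀ j : Fin 2,
    Function.Injective (blk j) ∧
    (∀ r ∈ rootsL j, ∀ i, (blk j i).val ≠ (T4).neg r ∧ ∀ k ∈ [1, 2, 3],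
      ((T4).chain r (blk j i) k).all (fun q => decide (∃ i', (blk j i').val = q.1)) = true) ∧
    (∀ r ∈ rootsU j, ∀ i, i.val = 0 → (blk j i).val ≠ (T4).neg r ∧ ∀ k ∈ [1, 2, 3],
      (T4).chain r (blk j i) k = none) ∧
    (∀ i, i.val = 0 → (T4).actWord (Data.F4.orbWords.getD j.val []) (blk j i) ≠ (blk j i).val) := by
  decide +kernel

theorem Lj_block (j : Fin 2) {g : GL (T4).I K} (hg : g ∈ Lj SS (OO) j) :
    g ∈ blockStab (fun i => (Sum.inr (blk j i) : (T4).I)) := by
  have hn : (T4).n = 48 := by decide +kernel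
  let H : Subgroup (GL (T4).I K) :=
    { blockStab (fun i => (Sum.inr (blk j i) : (T4).I)) with
      inv_mem' := fun {x} hx => by
        have hp : x⁻¹ ∈ Submonoid.powers x :=
          (isOfFinOrder_of_finite x).mem_powers_iff_mem_zpowers.2 (inv_mem (Subgroup.mem_zpowers x))
        exact Submonoid.powers_le.2 hx hp }
  refine (show Lj SS (OO) j ≤ H from (Lj_le_roots hK j).trans (rootGen_le fun r hr hmem t => ?_)) hg
  intro s row hrow
  obtain ⟨-, hblk, -⟩ := blk_facts j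
  obtain ⟨hne, hch⟩ := hblk r hmem s
  rw [xU_val Data.F4.valid hr, X_apply]
  have hrc : row ≠ Sum.inr (blk j s) := (hrow s).symm
  rw [if_neg hrc, zero_add]
  refine Finset.sum_eq_zero fun k hk => ?_
  obtain ⟨k, rfl⟩ : ∃ k', k = k' + 1 := ⟨k - 1, by have := (Finset.mem_Ico.1 hk).1; omega⟩
  have hk' : k + 1 ∈ [1, 2, 3] := by
    have h4 : k + 1 < 4 := (Finset.mem_Ico.1 hk).2
    have : k < 3 := by omega
    interval_cases k <;> simp
  have hz : (T4).colA r (k + 1) (Sum.inr (blk j s)) row = 0 := by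
    simp only [colA, if_neg hne]
    split
    · rfl
    · have hq := hch (k + 1) hk'
      cases hc : (T4).chain r (blk j s).val (k + 1) with
      | none => rfl
      | some q =>
        rw [hc, Option.all_some, decide_eq_true_eq] at hq
        obtain ⟨i', hi'⟩ := hq
        obtain ⟨u, z⟩ := q
        simp only [optVec, rootVec, Pi.smul_apply]
        rcases row with l | l
        · simp
        · have : l.val ≠ u := fun h => hrow i' (congrArg Sum.inr (Fin.ext (hi'.trans h.symm)))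
          simp [this]
  rw [hz, Int.cast_zero, mul_zero]

theorem Uj_top (j : Fin 2) {g : GL (T4).I K} (hg : g ∈ Uj SS (OO) j) (i : Fin (2 * expJ j))
    (hi : i.val = 0) :
    (g : Matrix (T4).I (T4).I K) *ᵥ Pi.single (Sum.inr (blk j i)) 1 = Pi.single (Sum.inr (blk j i)) 1 := by
  set e : (T4).I → K := Pi.single (Sum.inr (blk j i)) 1
  let H : Subgroup (GL (T4).I K) :=
    { carrier := {g | (g : Matrix (T4).I (T4).I K) *ᵥ e = e}
      one_mem' := by simp
      mul_mem' := fun {a b} ha hb => by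
        show ((a * b : GL (T4).I K) : Matrix (T4).I (T4).I K) *ᵥ e = e
        rw [Units.val_mul, ← Matrix.mulVec_mulVec, hb, ha]
      inv_mem' := fun {a} (ha : (a : Matrix (T4).I (T4).I K) *ᵥ e = e) => by
        show ((a⁻¹ : GL (T4).I K) : Matrix (T4).I (T4).I K) *ᵥ e = e
        nth_rewrite 1 [← ha]
        rw [Matrix.mulVec_mulVec, ← Units.val_mul, inv_mul_cancel, Units.val_one, Matrix.one_mulVec] }
  refine (show Uj SS (OO) j ≤ H from (Uj_le_roots hK j).trans (rootGen_le fun r hr hmem t => ?_)) hg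
  show _ *ᵥ e = e
  obtain ⟨-, -, hU, -⟩ := blk_facts j
  obtain ⟨hne, hch⟩ := hU r hmem i hi
  funext row
  rw [Matrix.mulVec_single_one, Matrix.col_apply, xU_val Data.F4.valid hr, X_apply,
    Finset.sum_eq_zero, add_zero]
  · simp [e, Pi.single_apply]
  intro k hk
  obtain ⟨k, rfl⟩ : ∃ k', k = k' + 1 := ⟨k - 1, by have := (Finset.mem_Ico.1 hk).1; omega⟩
  have hk' : k + 1 ∈ [1, 2, 3] := by
    have h4 : k + 1 < 4 := (Finset.mem_Ico.1 hk).2
    have : k < 3 := by omega
    interval_cases k <;> simp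
  simp [colA, if_neg hne, hch (k + 1) hk', optVec]

theorem not_dvd_pred {p : ℕ} [hp : Fact p.Prime] (hp2 : p ≠ 2) (j : Fin 2)
    (hd : p ∣ (2 ^ (2 * m + 1)) ^ expJ j + 1) :
    ¬ p ∣ 2 ^ (2 * m + 1) - 1 ∧ ¬ p ∣ 2 ^ (2 * m + 1) ∧
      orderOf ((2 ^ (2 * m + 1) : ℕ) : ZMod p) = 2 * expJ j ∧ 2 * expJ j < p := by
  set q := 2 ^ (2 * m + 1) with hq
  have hq1 : 1 ≤ q := Nat.one_le_two_pow
  have hd0 : ((q : ZMod p)) ^ expJ j + 1 = 0 := by exact_mod_cast (ZMod.natCast_eq_zero_iff _ p).2 hd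
  have h2 : (2 : ZMod p) ≠ 0 := fun h => hp2 ((Nat.prime_dvd_prime_iff_eq hp.out Nat.prime_two).1
    ((ZMod.natCast_eq_zero_iff 2 p).1 (by exact_mod_cast h)))
  have hord : orderOf (q : ZMod p) = 2 * expJ j := by
    have hneg : (q : ZMod p) ^ expJ j ≠ 1 := fun h => h2 (by linear_combination hd0 - h)
    have hsq : (q : ZMod p) ^ (2 * expJ j) = 1 := by
      rw [mul_comm, pow_mul]; linear_combination ((q : ZMod p) ^ expJ j - 1) * hd0
    match j with
    | 0 =>
      have : Fact (Nat.Prime 2) := ⟨Nat.prime_two⟩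
      show orderOf (q : ZMod p) = 2
      exact orderOf_eq_prime (by simpa [expJ] using hsq) (by simpa [expJ] using hneg)
    | 1 =>
      have : Fact (Nat.Prime 2) := ⟨Nat.prime_two⟩
      show orderOf (q : ZMod p) = 2 ^ (1 + 1)
      exact orderOf_eq_prime_pow (p := 2) (n := 1) (by simpa [expJ] using hneg) (by simpa [expJ] using hsq)
  have hq0 : (q : ZMod p) ≠ 0 := fun h => by
    rw [h, orderOf_zero] at hord
    match j with
    | 0 => simp [expJ] at hord
    | 1 => simp [expJ] at hord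
  refine ⟨fun h => ?_, fun h => hq0 ((ZMod.natCast_eq_zero_iff _ _).2 h), hord, ?_⟩
  · have h' : ((q - 1 : ℕ) : ZMod p) = 0 := (ZMod.natCast_eq_zero_iff _ _).2 h
    rw [Nat.cast_sub hq1, Nat.cast_one, sub_eq_zero] at h'
    rw [h', orderOf_one] at hord
    omega
  · have hdv : orderOf (q : ZMod p) ∣ p - 1 := orderOf_dvd_of_pow_eq_one (ZMod.pow_card_sub_one_eq_one hq0)
    rw [hord] at hdv
    have := hp.out.two_le
    have := Nat.le_of_dvd (by omega) hdv
    omega

theorem rep_faithful (j : Fin 2) {p : ℕ} [Fact p.Prime] (hd : ¬ p ∣ 2 ^ (2 * m + 1) - 1) (hp2 : p ≠ 2)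
    {g : GL (T4).I K} (hg : g ∈ Lj SS (OO) j) {a : ℕ} (ha : g ^ p ^ a = 1) (i : Fin (2 * expJ j))
    (hi : i.val = 0)
    (hfix : (g : Matrix (T4).I (T4).I K) *ᵥ Pi.single (Sum.inr (blk j i)) 1 =
      Pi.single (Sum.inr (blk j i)) 1) : g = 1 := by
  have hT := (SS).valid
  set n := repJ hK j
  set e : (T4).I → K := Pi.single (Sum.inr (blk j i)) 1 with hee
  have hn := repJ_mono hK j
  rcases cells (S := SS) (O := OO) j (repJ_mem hK j) hn.1 hn.2 (repJ_sq hK j) hg with
    ⟨u, hu, h, hh, rfl⟩ | ⟨u, hu, h, hh, v, hv, rfl⟩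
  · have hpow : ∀ N : ℕ, ∃ u' ∈ Uj SS (OO) j, (u * h) ^ N = u' * h ^ N := by
      intro N
      induction N with
      | zero => exact ⟨1, one_mem _, by simp⟩
      | succ N ih =>
        obtain ⟨u', hu', e'⟩ := ih
        refine ⟨u' * (h ^ N * u * (h ^ N)⁻¹), mul_mem hu' (Hj_conj_Uj (S := SS) (O := OO) j (pow_mem hh N) hu), ?_⟩
        rw [pow_succ, e', pow_succ]; group
    obtain ⟨u', hu', e'⟩ := hpow (p ^ a)
    rw [ha] at e'
    have h1 : h ^ p ^ a = 1 := ((borel_unique hT (SS).comm (one_mem _) (Uj_pos (S := SS) (O := OO) j hu') (one_mem _)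
      (pow_mem hh (p ^ a)).2 (show (1 : GL (T4).I K) * 1 = u' * h ^ p ^ a by rw [one_mul]; exact e')).2).symm
    have hh1 : h = 1 := orderOf_eq_one_iff.1 (Nat.eq_one_of_dvd_coprimes
      (((Nat.Prime.coprime_iff_not_dvd Fact.out).2 hd).pow_left a)
      (orderOf_dvd_of_pow_eq_one h1) (orderOf_dvd_of_pow_eq_one (Hj_pow hK j hh)))
    rw [hh1, mul_one] at ha ⊢
    obtain ⟨b, hb⟩ := Uj_isPGroup hK j ⟨u, hu⟩
    exact orderOf_eq_one_iff.1 (Nat.eq_one_of_dvd_coprimes
      (((Nat.coprime_primes Fact.out Nat.prime_two).2 hp2).pow a b)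
      (orderOf_dvd_of_pow_eq_one ha) (orderOf_dvd_of_pow_eq_one (congrArg Subtype.val hb)))
  · exfalso
    obtain ⟨χ, hχ, hhχ⟩ := diag_exists_char hT hh.2
    set top := blk j i
    set w := (SS).wJ (OO) j with hw
    have he : ((n * h : GL (T4).I K) : Matrix (T4).I (T4).I K) *ᵥ e = e := by
      have hu' := Uj_top hK j (inv_mem hu) i hi
      have hv' := Uj_top hK j hv i hi
      rw [← hee] at hu' hv'
      rw [Units.val_mul, ← Matrix.mulVec_mulVec, hv'] at hfix
      have h3 := congrArg (fun x => ((u⁻¹ : GL (T4).I K) : Matrix (T4).I (T4).I K) *ᵥ x) hfix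
      simp only [Matrix.mulVec_mulVec, ← Units.val_mul, hu'] at h3
      rwa [show u⁻¹ * (u * repJ hK j * h) = n * h from (show u⁻¹ * (u * repJ hK j * h) = repJ hK j * h by group)] at h3
    have hwt : w top ≠ top := fun h' => (blk_facts j).2.2.2 i hi (by
      rw [← (Twist.F4.data hK).orbits_wJ Twist.F4.chk_orbits j top]
      exact congrArg Fin.val h')
    have := congrFun he (Sum.inr top)
    rw [hee, Matrix.mulVec_single_one, Matrix.col_apply, Units.val_mul, hhχ, dU_val, Matrix.mul_diagonal,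
      hn.2.col top _ (fun h' => hwt (Sum.inr_injective h').symm)] at this
    simp at this

theorem rep_cyclic (j : Fin 2) {p : ℕ} [Fact p.Prime] (hp2 : p ≠ 2)
    (hd : p ∣ Nat.card (Uj SS (OO) j) + 1) (P : Subgroup (GL (T4).I K)) (hle : P ≤ Lj SS (OO) j)
    (hP : IsPGroup p P) : IsCyclic P := by
  rw [card_Uj] at hd
  obtain ⟨h1, h0, hord, hlt⟩ := not_dvd_pred hK hp2 j hd
  have : Fintype K := Fintype.ofFinite K
  have hcard : Fintype.card K = 2 ^ (2 * m + 1) := by rw [← Nat.card_eq_fintype_card, hK]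
  let b : Fin (2 * expJ j) → (T4).I := fun i => Sum.inr (blk j i)
  have hb : Function.Injective b := Sum.inr_injective.comp (blk_facts j).1
  let ι : P →* ↥(blockStab (K := K) b) :=
    { toFun := fun g => ⟨g, Lj_block hK j (hle g.2)⟩
      map_one' := rfl
      map_mul' := fun _ _ => rfl }
  let φ : P →* GL (Fin (2 * expJ j)) K := ((blockHom hb).comp ι).toHomUnits
  have hinj : Function.Injective φ := (injective_iff_map_eq_one φ).2 fun g hg => by
    obtain ⟨a, ha⟩ := hP g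
    have hpos : 0 < 2 * expJ j := by
      rcases (show ∀ j : Fin 2, j = 0 ∨ j = 1 by decide) j with rfl | rfl <;> simp [expJ]
    let i : Fin (2 * expJ j) := ⟨0, hpos⟩
    refine Subtype.ext (rep_faithful hK j h1 hp2 (hle g.2) (a := a) (congrArg Subtype.val ha) i rfl ?_)
    funext row
    rw [Matrix.mulVec_single_one, Matrix.col_apply, Pi.single_apply]
    by_cases hr : ∃ k, b k = row
    · obtain ⟨k, rfl⟩ := hr
      have hki := congrArg (fun x : GL (Fin (2 * expJ j)) K => (x : Matrix _ _ K) k i) hg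
      refine Eq.trans hki ?_
      simp [Matrix.one_apply, hb.eq_iff]
      congr 1
      exact propext ⟨fun h => congrArg b h, fun h => hb h⟩
    · rw [Lj_block hK j (hle g.2) i row (fun k e => hr ⟨k, e⟩), if_neg (fun e => hr ⟨i, e.symm⟩)]
  haveI : IsPGroup p φ.range := fun ⟨x, g, hg⟩ => by
    obtain ⟨a, ha⟩ := hP g
    exact ⟨a, Subtype.ext (by show x ^ p ^ a = 1; rw [← hg, ← map_pow, ha, map_one])⟩
  obtain ⟨Q, hQ⟩ := IsPGroup.exists_le_sylow (P := φ.range) this
  have hord' : orderOf ((Fintype.card K : ℕ) : ZMod p) = 2 * expJ j := by rw [hcard]; exact hord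
  have hrq : ¬ p ∣ Fintype.card K := hcard.symm ▸ h0
  have hpos : 0 < 2 * expJ j := hord' ▸ TorusSylow.order_pos hrq
  have hv := TorusSylow.val_gl (F := K) (r := p) (2 * expJ j) hlt hrq
  rw [hord', Nat.div_self hpos] at hv
  have : Fact (Nat.Prime 2) := ⟨Nat.prime_two⟩
  have hex := TorusSylow.exists_gl_torus (F := K) 2 (n := 2 * expJ j) hpos
    (pow_padicValNat_dvd (p := p) (n := Fintype.card K ^ (2 * expJ j) - 1))
  rw [Nat.div_self hpos] at hex
  obtain ⟨ψ, hψ⟩ := hex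
  obtain ⟨θ⟩ := TorusSylow.sylow_iso_of_hom Q ψ hψ hv
  let e1 : (Fin 1 → Multiplicative (ZMod (p ^ padicValNat p (Fintype.card K ^ (2 * expJ j) - 1)))) ≃*
      Multiplicative (ZMod (p ^ padicValNat p (Fintype.card K ^ (2 * expJ j) - 1))) := MulEquiv.funUnique _ _
  haveI : IsCyclic ↥(Q : Subgroup (GL (Fin (2 * expJ j)) K)) :=
    isCyclic_of_surjective (θ.trans e1).symm (MulEquiv.surjective _)
  exact isCyclic_of_injective ((Subgroup.inclusion hQ).comp φ.rangeRestrict)
    ((Subgroup.inclusion_injective hQ).comp fun x y h => hinj (congrArg Subtype.val h))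

theorem cyc (j : Fin 2) (p : ℕ) [Fact p.Prime] (hp2 : p ≠ 2) (P : Subgroup (Lj SS (OO) j))
    (hP : IsPGroup p P) : IsCyclic P :=
  isCyclic_of_pGroup (S := SS) (O := OO) j (repJ_mem hK j) (repJ_mono hK j).1 (repJ_mono hK j).2 (repJ_sq hK j) hp2
    (Uj_isPGroup hK j) (Hj_cyclic hK j) (fun hd P hle hP => rep_cyclic hK j hp2 hd P hle hP) P hP

/-! ### The section data -/

theorem pos_two : IsPGroup 2 ↥((SS).fix ⊓ (T4).rootGen K (fun r => (T4).half ≤ r)) := by
  refine IsPGroup.of_card (n := (2 * m + 1) * 12) ?_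
  rw [inf_comm, ← posUnipotent_rootGen Data.F4.valid, Twist.F4.card_Upos hK, ← pow_mul]

theorem diag_odd : ¬ 2 ∣ Nat.card ↥((SS).fix ⊓ (T4).datum.diagonalSubgroup K) := by
  rw [inf_comm, Twist.F4.card_diag hK]
  intro h
  have h' := Nat.prime_two.dvd_of_dvd_pow h
  have : 2 ∣ 2 ^ (2 * m + 1) := dvd_pow_self 2 (by omega)
  have := Nat.one_le_two_pow (n := 2 * m + 1)
  omega

theorem diag_comm : ∀ a ∈ (SS).fix ⊓ (T4).datum.diagonalSubgroup K,
    ∀ b ∈ (SS).fix ⊓ (T4).datum.diagonalSubgroup K, a * b = b * a := by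
  intro a ha b hb
  rw [inf_comm, Twist.F4.diag_fix hK] at ha hb
  obtain ⟨x, -, rfl⟩ := ha
  obtain ⟨y, -, rfl⟩ := hb
  rw [← map_mul, ← map_mul, mul_comm]

theorem generated : (SS).fix ≤ Subgroup.closure
    ((((SS).fix ⊓ (T4).rootGen K (fun r => (T4).half ≤ r) : Subgroup (GL (T4).I K)) : Set (GL (T4).I K)) ∪
      Set.range (repJ hK)) := by
  conv_lhs => rw [← Twist.F4.grp_eq_fix hK, Twist.F4.grp_eq hK]
  refine (Subgroup.closure_le _).2 ?_
  have hpos : ∀ (j : Fin 2), ∀ x ∈ Uj SS (OO) j, x ∈ Subgroup.closure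
      ((((SS).fix ⊓ (T4).rootGen K (fun r => (T4).half ≤ r) : Subgroup (GL (T4).I K)) : Set (GL (T4).I K)) ∪
        Set.range (repJ hK)) :=
    fun j x hx => Subgroup.subset_closure (Or.inl (Subgroup.mem_inf.2 ⟨hx.1, Uj_pos (S := SS) (O := OO) j hx⟩))
  have hneg : ∀ (j : Fin 2), ∀ x ∈ Vj SS (OO) j, x ∈ Subgroup.closure
      ((((SS).fix ⊓ (T4).rootGen K (fun r => (T4).half ≤ r) : Subgroup (GL (T4).I K)) : Set (GL (T4).I K)) ∪
        Set.range (repJ hK)) := by
    intro j x hx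
    have h1 := hpos j _ (conj_Vj (S := SS) (O := OO) j (Lj_le (S := SS) (O := OO) j (repJ_mem hK j)) (repJ_mono hK j).2 hx)
    have h2 : repJ hK j ∈ Subgroup.closure
      ((((SS).fix ⊓ (T4).rootGen K (fun r => (T4).half ≤ r) : Subgroup (GL (T4).I K)) : Set (GL (T4).I K)) ∪
        Set.range (repJ hK)) := Subgroup.subset_closure (Or.inr ⟨j, rfl⟩)
    have := mul_mem (mul_mem (inv_mem h2) h1) h2
    simpa [mul_assoc] using this
  rintro x (⟨t, rfl⟩ | ⟨t, rfl⟩ | ⟨t, u, rfl⟩ | ⟨t, u, rfl⟩)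
  · exact hpos 0 _ (Twist.F4.pair_mem_Uw hK t)
  · exact hneg 0 _ (Subgroup.mem_inf.2 ⟨Twist.F4.pair_fix hK (by simp) t, Twist.F4.neg_pair_VJ hK t⟩)
  · exact hpos 1 _ (Twist.F4.quad_mem_Uw hK t u)
  · exact hneg 1 _ (Subgroup.mem_inf.2 ⟨Twist.F4.quad_fix hK Twist.F4.quadNeg t u, Twist.F4.neg_quad_VJ hK t u⟩)

end CfsgLib.KnownA.F4Multiplier
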