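import Cfsg.Agent.Lib.KnownA.D4Multiplier.Central
import Cfsg.Agent.Lib.KnownA.SuzukiMultiplier
import Mathlib.Algebra.Polynomial.Roots

/-!
# Families of one parameter with a torus in a central extension

A filtration by families which are additive modulo the lower ones lifts to a subgroup meeting the
kernel trivially, as soon as the pairings between the families die.
-/

set_option autoImplicit false
set_option linter.unusedSectionVars false

namespace CfsgLib.KnownA.F4Multiplier

open scoped commutatorElement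
open D4Multiplier (commute_ker bracket_congr conj_bracket bracket_ker)

/-! ### Generalities -/

section Group

variable {G : Type*} [Group G]

theorem mem_normalizer_of_conj [Finite G] {V : Subgroup G} {x : G} (h : ∀ v ∈ V, x * v * x⁻¹ ∈ V) :
    x ∈ Subgroup.normalizer (V : Set G) := by
  rw [Subgroup.mem_normalizer_iff]
  let f : V → V := fun v => ⟨x * v * x⁻¹, h v v.2⟩
  have hf : Function.Injective f := fun v w e => by
    have := congrArg Subtype.val e
    simpa [f] using this
  intro v
  refine ⟨h v, fun hv => ?_⟩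
  obtain ⟨w, hw⟩ := Finite.surjective_of_injective hf ⟨_, hv⟩
  have := congrArg Subtype.val hw
  simp only [f, mul_left_inj, mul_right_inj] at this
  exact this ▸ w.2

theorem conj_mem_of_normalizer {V : Subgroup G} {x v : G} (hx : x ∈ Subgroup.normalizer (V : Set G))
    (hv : v ∈ V) : x * v * x⁻¹ ∈ V :=
  (Subgroup.mem_normalizer_iff.1 hx v).1 hv

theorem bracket_mem_of_normalizer {V : Subgroup G} {x v : G} (hx : x ∈ Subgroup.normalizer (V : Set G))
    (hv : v ∈ V) : ⁅x, v⁆ ∈ V :=
  mul_mem (conj_mem_of_normalizer hx hv) (inv_mem hv)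

theorem bracket_swap_mem {V : Subgroup G} {x y : G} (h : ⁅x, y⁆ ∈ V) : ⁅y, x⁆ ∈ V := by
  rw [← commutatorElement_inv]; exact inv_mem h

/-- The elements normalising a subgroup whose commutators with a set fall into it. -/
def brkSub (V : Subgroup G) (B : Set G) : Subgroup G where
  carrier := {x | x ∈ Subgroup.normalizer (V : Set G) ∧ ∀ b ∈ B, ⁅x, b⁆ ∈ V}
  one_mem' := ⟨one_mem _, fun b _ => by simp⟩
  mul_mem' := by
    rintro x y ⟨hx, hx'⟩ ⟨hy, hy'⟩
    refine ⟨mul_mem hx hy, fun b hb => ?_⟩
    rw [show ⁅x * y, b⁆ = (x * ⁅y, b⁆ * x⁻¹) * ⁅x, b⁆ by simp only [commutatorElement_def]; group]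
    exact mul_mem (conj_mem_of_normalizer hx (hy' b hb)) (hx' b hb)
  inv_mem' := by
    rintro x ⟨hx, hx'⟩
    refine ⟨inv_mem hx, fun b hb => ?_⟩
    rw [show ⁅x⁻¹, b⁆ = x⁻¹ * ⁅x, b⁆⁻¹ * x⁻¹⁻¹ by simp only [commutatorElement_def]; group]
    exact conj_mem_of_normalizer (inv_mem hx) (inv_mem (hx' b hb))

theorem mem_brkSub_iff {V : Subgroup G} {B : Set G} {x : G} :
    x ∈ brkSub V B ↔ x ∈ Subgroup.normalizer (V : Set G) ∧ ∀ b ∈ B, ⁅x, b⁆ ∈ V := Iff.rfl

theorem mem_brkSub_of_mem {V : Subgroup G} {B : Set G} {x : G} (hx : x ∈ V)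
    (hB : ∀ b ∈ B, b ∈ Subgroup.normalizer (V : Set G)) : x ∈ brkSub V B :=
  ⟨Subgroup.le_normalizer hx, fun b hb => bracket_swap_mem (bracket_mem_of_normalizer (hB b hb) hx)⟩

end Group

/-! ### Filtrations -/

section Filt

variable {G : Type*} [Group G] {K : Type*} {n : ℕ} (g : Fin n → K → G)

/-- The subgroup of the families before `m`. -/
def Gl (m : ℕ) : Subgroup G := Subgroup.closure {x | ∃ i : Fin n, i.val < m ∧ ∃ s, x = g i s}

theorem mem_Gl {i : Fin n} {m : ℕ} (h : i.val < m) (s : K) : g i s ∈ Gl g m :=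
  Subgroup.subset_closure ⟨i, h, s, rfl⟩

theorem Gl_mono {l m : ℕ} (h : l ≤ m) : Gl g l ≤ Gl g m :=
  Subgroup.closure_mono fun _ ⟨i, hi, hx⟩ => ⟨i, lt_of_lt_of_le hi h, hx⟩

variable [Finite G]

/-- Brackets known below `l` make the higher families normalise the lower part. -/
theorem normalizer_Gl {l : ℕ} {k : Fin n} (hk : l ≤ k.val) (t : K)
    (h : ∀ i : Fin n, i.val < l → ∀ u, ⁅g k t, g i u⁆ ∈ Gl g i.val) :
    g k t ∈ Subgroup.normalizer (Gl g l : Set G) := by
  refine mem_normalizer_of_conj fun v hv => ?_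
  induction hv using Subgroup.closure_induction with
  | mem x hx =>
    obtain ⟨i, hi, u, rfl⟩ := hx
    rw [show g k t * g i u * (g k t)⁻¹ = ⁅g k t, g i u⁆ * g i u by
      simp [commutatorElement_def, mul_assoc]]
    exact mul_mem (Gl_mono g hi.le (h i hi u)) (mem_Gl g hi u)
  | one => simp
  | mul a b _ _ ha hb => simpa [mul_assoc] using mul_mem ha hb
  | inv a _ ha => simpa [mul_assoc] using inv_mem ha

/-- Brackets from collection rules. -/
theorem bracket_of_rules
    (hA : ∀ j k, j < k → ∀ t u, ∃ x ∈ Gl g j.val,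
      g k t * g j u = g j u * x * g k t ∨ g j u * g k t = g k t * x * g j u) :
    ∀ j k, j < k → ∀ t u, ⁅g k t, g j u⁆ ∈ Gl g j.val := by
  have main : ∀ J : ℕ, ∀ j : Fin n, j.val = J → ∀ k, j < k → ∀ t u, ⁅g k t, g j u⁆ ∈ Gl g j.val := by
    intro J
    induction J using Nat.strong_induction_on with
    | _ J IH =>
    intro j hJ k hjk t u
    have hN : ∀ (l : Fin n), j ≤ l → ∀ s, g l s ∈ Subgroup.normalizer (Gl g j.val : Set G) :=
      fun l hl s => normalizer_Gl g hl s fun i hi v =>
        IH i.val (hJ ▸ hi) i rfl l (lt_of_lt_of_le hi hl) s v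
    obtain ⟨x, hx, e | e⟩ := hA j k hjk t u
    · rw [show ⁅g k t, g j u⁆ = g j u * x * (g j u)⁻¹ by
        rw [commutatorElement_def, e]; group]
      exact conj_mem_of_normalizer (hN j le_rfl u) hx
    · refine bracket_swap_mem ?_
      rw [show ⁅g j u, g k t⁆ = g k t * x * (g k t)⁻¹ by
        rw [commutatorElement_def, e]; group]
      exact conj_mem_of_normalizer (hN k hjk.le t) hx
  exact fun j => main j.val j rfl

end Filt

/-- A good element for the alternating pairings. -/
theorem exists_good_elt {K : Type*} [Field K] [Finite K] (hcard : 4 < Nat.card K) :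
    ∃ u : K, u ≠ 0 ∧ u + 1 ≠ 0 ∧ u * u + u + 1 ≠ 0 := by
  classical
  haveI := Fintype.ofFinite K
  let p : Polynomial K := Polynomial.X * (Polynomial.X + 1) * (Polynomial.X * Polynomial.X + Polynomial.X + 1)
  have hdeg : p.natDegree ≤ 4 := by
    simp only [p]
    compute_degree
  have hp : p ≠ 0 := by
    simp only [p]
    refine mul_ne_zero (mul_ne_zero Polynomial.X_ne_zero ?_) ?_ <;>
      · intro h
        simpa using congrArg (Polynomial.eval 0) h
  obtain ⟨u, hu⟩ : ∃ u : K, u ∉ p.roots.toFinset := by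
    by_contra h
    push Not at h
    have h1 := (Multiset.toFinset_card_le _).trans (p.card_roots'.trans hdeg)
    rw [Finset.eq_univ_of_forall h, Finset.card_univ, ← Nat.card_eq_fintype_card] at h1
    omega
  rw [Multiset.mem_toFinset, Polynomial.mem_roots hp, Polynomial.IsRoot] at hu
  simp only [p, Polynomial.eval_mul, Polynomial.eval_add, Polynomial.eval_X, Polynomial.eval_one,
    mul_ne_zero_iff] at hu
  exact ⟨u, hu.1.1, hu.1.2, hu.2⟩

/-! ### The lifting -/

variable {E Q : Type*} [Group E] [Group Q] {π : E →* Q} {K : Type*} [Field K] {n : ℕ}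

/-- Families with a torus. -/
structure Fam (g : Fin n → K → Q) {ι : Type*} (h : ι → Q) (w : ι → Fin n → K) : Prop where
  add : ∀ k s t, ∃ r ∈ Gl g k.val, g k s * g k t = g k (s + t) * r
  tor : ∀ i k t, h i * g k t = g k (w i k * t) * h i
  tcomm : ∀ i j, Commute (h i) (h j)
  move : ∀ k, ∃ i, w i k ≠ 1
  rule : ∀ j k, j < k → ∀ t u, ∃ x ∈ Gl g j.val,
    g k t * g j u = g j u * x * g k t ∨ g j u * g k t = g k t * x * g j u
  indep : ∀ k t, g k t ∈ Gl g k.val → t = 0

variable {g : Fin n → K → Q} {ι : Type*} {h : ι → Q} {w : ι → Fin n → K}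

/-- The pairings of two families vanish. -/
def Kills (π : E →* Q) (g : Fin n → K → Q) (w : ι → Fin n → K) (j k : Fin n) : Prop :=
  (∃ i, w i j = 1 ∧ w i k ≠ 1 ∨ w i k = 1 ∧ w i j ≠ 1) ∨
    (j = k ∧ ∀ l : K, l ≠ 0 → ∃ i, w i k = l) ∨
    ∀ t u a b, π a = g k t → π b = g j u → Commute a b

theorem exists_lift_subgroup [Finite E] [Finite Q] [Finite K] (F : Fam g h w)
    (hk : π.ker ≤ Subgroup.center E) (hg : ∀ k t, g k t ∈ π.range) (hh : ∀ i, h i ∈ π.range)
    (h2 : (2 : K) = 0) (hcard : 4 < Nat.card K) (hkill : ∀ j k, j ≤ k → Kills π g w j k) :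
    ∃ S : Subgroup E, (∀ e ∈ S, π e = 1 → e = 1) ∧ Gl g n ≤ S.map π := by
  classical
  choose l hl using fun k t => MonoidHom.mem_range.1 (hg k t)
  choose a ha using fun i => MonoidHom.mem_range.1 (hh i)
  choose i0 hi0 using F.move
  let m : Fin n → K := fun k => w (i0 k) k - 1
  have hm : ∀ k, m k ≠ 0 := fun k => sub_ne_zero.2 (hi0 k)
  let y : Fin n → K → E := fun k t => ⁅a (i0 k), l k (t / m k)⁆
  -- brackets and normalisation in the image
  have hbr := bracket_of_rules g F.rule
  have hN : ∀ {j k : Fin n}, j ≤ k → ∀ t, g k t ∈ Subgroup.normalizer (Gl g j.val : Set Q) :=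
    fun {j k} hjk t => normalizer_Gl g hjk t fun i hi u => hbr i k (lt_of_lt_of_le hi hjk) t u
  have g0 : ∀ k, g k 0 ∈ Gl g k.val := fun k => by
    obtain ⟨r, hr, e⟩ := F.add k 0 0
    rw [add_zero, mul_right_inj] at e
    exact e ▸ hr
  have hbr' : ∀ {i k : Fin n}, i ≤ k → ∀ t u, ⁅g k t, g i u⁆ ∈ Gl g i.val := by
    intro i k hik t u
    rcases hik.lt_or_eq with hlt | rfl
    · exact hbr i k hlt t u
    obtain ⟨r1, hr1, e1⟩ := F.add i t u
    obtain ⟨r2, hr2, e2⟩ := F.add i u t
    rw [show ⁅g i t, g i u⁆ = g i t * g i u * (g i u * g i t)⁻¹ by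
      rw [commutatorElement_def]; group, e1, e2, add_comm u t]
    rw [show g i (t + u) * r1 * (g i (t + u) * r2)⁻¹ = g i (t + u) * (r1 * r2⁻¹) * (g i (t + u))⁻¹ by group]
    exact conj_mem_of_normalizer (hN le_rfl _) (mul_mem hr1 (inv_mem hr2))
  -- the images and the equivariance of the lifts
  have himg : ∀ k t, ∃ r ∈ Gl g k.val, π (y k t) = g k t * r := by
    intro k t
    obtain ⟨r, hr, e⟩ := F.add k t (t / m k)
    refine ⟨g k (t / m k) * r⁻¹ * (g k (t / m k))⁻¹,
      conj_mem_of_normalizer (hN le_rfl _) (inv_mem hr), ?_⟩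
    rw [map_commutatorElement, ha, hl, commutatorElement_def, F.tor, mul_inv_cancel_right,
      show w (i0 k) k * (t / m k) = t + t / m k by
        rw [show w (i0 k) k = 1 + m k by simp [m]]; field_simp [hm k]; ring,
      show g k (t + t / m k) = g k t * g k (t / m k) * r⁻¹ by rw [e, mul_inv_cancel_right]]
    group
  have hy : ∀ i k t, a i * y k t * (a i)⁻¹ = y k (w i k * t) := by
    intro i k t
    show a i * ⁅a (i0 k), l k (t / m k)⁆ * (a i)⁻¹ = ⁅a (i0 k), l k (w i k * t / m k)⁆
    rw [conj_bracket hk]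
    refine bracket_congr hk ?_ ?_
    · rw [map_mul, map_mul, map_inv, ha, ha, (F.tcomm i (i0 k)).eq, mul_inv_cancel_right]
    · rw [map_mul, map_mul, map_inv, ha, hl, hl, F.tor, mul_inv_cancel_right, mul_div_assoc]
  let V : ℕ → Subgroup E := fun M => Gl y M
  have hVconj : ∀ i M, a i ∈ Subgroup.normalizer (V M : Set E) := fun i M => by
    refine mem_normalizer_of_conj fun v hv => ?_
    induction hv using Subgroup.closure_induction with
    | mem x hx =>
      obtain ⟨k, hk', t, rfl⟩ := hx
      rw [hy]; exact mem_Gl y hk' _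
    | one => simp
    | mul p q _ _ hp hq => simpa [mul_assoc] using mul_mem hp hq
    | inv p _ hp => simpa [mul_assoc] using inv_mem hp
  -- the induction
  suffices H : ∀ M, M ≤ n → (∀ e ∈ V M, π e = 1 → e = 1) ∧ Gl g M = (V M).map π ∧
      (∀ i k : Fin n, i ≤ k → k.val < M → ∀ t u, ⁅y k t, y i u⁆ ∈ V i.val) from
    ⟨V n, (H n le_rfl).1, (H n le_rfl).2.1.le⟩
  intro M
  induction M with
  | zero =>
    intro _
    have hV : V 0 = ⊥ := by
      rw [eq_bot_iff]
      exact (Subgroup.closure_le _).2 fun x ⟨i, hi, _⟩ => absurd hi (by omega)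
    have hG : Gl g 0 = ⊥ := by
      rw [eq_bot_iff]
      exact (Subgroup.closure_le _).2 fun x ⟨i, hi, _⟩ => absurd hi (by omega)
    exact ⟨fun e he _ => by rw [hV] at he; exact he, by rw [hG, hV, Subgroup.map_bot],
      fun i k _ hk => absurd hk (by omega)⟩
  | succ M ih =>
    intro hM
    obtain ⟨inj, hgl, hpre⟩ := ih (by omega)
    set k : Fin n := ⟨M, by omega⟩ with hkdef
    -- decomposition over the kernel
    have dec : ∀ {x : E}, π x ∈ Gl g M → ∃ z, π z = 1 ∧ ∃ v ∈ V M, x = z * v := by
      intro x hx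
      rw [hgl] at hx
      obtain ⟨v, hv, e⟩ := hx
      exact ⟨x * v⁻¹, by rw [map_mul, map_inv, e, mul_inv_cancel], v, hv, by group⟩
    have hgli : ∀ {i : Fin n}, i.val ≤ M → ∀ {x : E}, π x ∈ Gl g i.val →
        ∃ z, π z = 1 ∧ ∃ v ∈ V i.val, x = z * v := by
      intro i hi x hx
      have : ∀ L, L ≤ M → Gl g L = (V L).map π := by
        intro L hL
        refine le_antisymm ?_ ?_
        · refine (Subgroup.closure_le _).2 ?_
          rintro _ ⟨p, hp, s, rfl⟩
          induction L using Nat.strong_induction_on generalizing p s with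
          | _ L IH =>
          obtain ⟨r, hr, e⟩ := himg p s
          have hr' : r ∈ (V p.val).map π := (Subgroup.closure_le _).2 (by
            rintro _ ⟨p', hp', s', rfl⟩
            exact IH p.val hp (by omega) p' hp' s') hr
          rw [show g p s = π (y p s) * r⁻¹ by rw [e, mul_inv_cancel_right]]
          exact mul_mem ⟨_, mem_Gl y hp s, rfl⟩
            (inv_mem (Subgroup.map_mono (Gl_mono y hp.le) hr'))
        · rw [Subgroup.map_le_iff_le_comap]
          refine (Subgroup.closure_le _).2 ?_
          rintro _ ⟨p, hp, s, rfl⟩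
          obtain ⟨r, hr, e⟩ := himg p s
          show π (y p s) ∈ Gl g L
          rw [e]
          exact mul_mem (mem_Gl g hp s) (Gl_mono g hp.le hr)
      rw [this i.val hi] at hx
      obtain ⟨v, hv, e⟩ := hx
      exact ⟨x * v⁻¹, by rw [map_mul, map_inv, e, mul_inv_cancel], v, hv, by group⟩
    have uniq : ∀ {z z' v v' : E}, π z = 1 → π z' = 1 → v ∈ V M → v' ∈ V M → z * v = z' * v' →
        z = z' := by
      intro z z' v v' hz hz' hv hv' e
      have h1 : v * v'⁻¹ = 1 := inj _ (mul_mem hv (inv_mem hv')) (by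
        rw [show v * v'⁻¹ = z⁻¹ * z' by
          rw [eq_inv_mul_iff_mul_eq, ← mul_assoc, e, mul_inv_cancel_right], map_mul, map_inv, hz,
          hz', inv_one, mul_one])
      rw [mul_inv_eq_one] at h1
      rw [h1] at e
      exact mul_right_cancel e
    -- the brackets with the new family
    have hclaim : ∀ I : ℕ, ∀ i : Fin n, i.val = I → I ≤ M → ∀ t u, ⁅y k t, y i u⁆ ∈ V I := by
      intro I
      induction I using Nat.strong_induction_on with
      | _ I IH =>
      intro i hI hIM t u
      subst hI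
      have hik : i ≤ k := hIM
      -- everything from `i` to `k` normalises the part below `i`
      have hnorm : ∀ p : Fin n, i ≤ p → p.val ≤ M → ∀ s,
          y p s ∈ Subgroup.normalizer (V i.val : Set E) := by
        intro p hip hpM s
        refine normalizer_Gl y hip s fun i' hi' u' => ?_
        rcases Nat.lt_or_ge p.val M with hlt | hge
        · exact hpre i' p (le_of_lt (lt_of_lt_of_le hi' hip)) hlt s u'
        · obtain rfl : p = k := Fin.ext (show p.val = M by omega)
          exact IH i'.val hi' i' rfl (by omega) s u'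
      have hVk : ∀ v ∈ V M, v ∈ brkSub (V i.val) (Set.range (y i)) := by
        intro v hv
        refine (Subgroup.closure_le _).2 ?_ hv
        rintro _ ⟨p, hp, s, rfl⟩
        rcases Nat.lt_or_ge p.val i.val with hlt | hge
        · refine mem_brkSub_of_mem (mem_Gl y hlt s) ?_
          rintro _ ⟨s', rfl⟩; exact hnorm i le_rfl hIM s'
        · exact ⟨hnorm p hge hp.le s, by rintro _ ⟨s', rfl⟩; exact hpre i p hge hp s s'⟩
      have hVk' : ∀ v ∈ V M, v ∈ Subgroup.normalizer (V i.val : Set E) := fun v hv => (hVk v hv).1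
      have hex : ∀ t u, ∃ z, π z = 1 ∧ ∃ v ∈ V i.val, ⁅y k t, y i u⁆ = z * v := by
        intro t u
        refine hgli hIM ?_
        obtain ⟨r, hr, e⟩ := himg k t
        obtain ⟨r', hr', e'⟩ := himg i u
        have hNi : g i u * r' ∈ Subgroup.normalizer (Gl g i.val : Set Q) :=
          mul_mem (hN le_rfl u) (Subgroup.le_normalizer hr')
        have hmem : g k t * r ∈ brkSub (Gl g i.val) {g i u} := by
          refine mul_mem ⟨hN hik t, by rintro _ rfl; exact hbr' hik t u⟩
            ((Subgroup.closure_le _).2 ?_ hr)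
          rintro _ ⟨p, hp, s, rfl⟩
          rcases Nat.lt_or_ge p.val i.val with hlt | hge
          · exact mem_brkSub_of_mem (mem_Gl g hlt s) (by rintro _ rfl; exact hN le_rfl u)
          · exact ⟨hN hge s, by rintro _ rfl; exact hbr' hge s u⟩
        rw [map_commutatorElement, e, e', show ⁅g k t * r, g i u * r'⁆ =
          ⁅g k t * r, g i u⁆ * (g i u * ⁅g k t * r, r'⁆ * (g i u)⁻¹) by
            simp only [commutatorElement_def]; group]
        exact mul_mem (hmem.2 _ rfl)
          (conj_mem_of_normalizer (hN le_rfl u) (bracket_mem_of_normalizer hmem.1 hr'))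
      choose e he v hv heq using hex
      have hiM : ∀ {x : E}, x ∈ V i.val → x ∈ V M := fun {x} hx => Gl_mono y hIM hx
      have euniq : ∀ {t u : K} {z x : E}, π z = 1 → x ∈ V i.val → ⁅y k t, y i u⁆ = z * x →
          z = e t u := fun {t u z x} hz hx h' =>
        uniq hz (he t u) (hiM hx) (hiM (hv t u)) (h'.symm.trans (heq t u))
      have hkn : ∀ t, y k t ∈ Subgroup.normalizer (V i.val : Set E) := fun t => hnorm k hik le_rfl t
      have hin : ∀ u, y i u ∈ Subgroup.normalizer (V i.val : Set E) := fun u => hnorm i le_rfl hIM u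
      have hgadd : ∀ (p : Fin n) (s s' : K),
          π ((y p s * y p s')⁻¹ * y p (s + s')) ∈ Gl g p.val := by
        intro p s s'
        obtain ⟨r1, hr1, e1⟩ := himg p s
        obtain ⟨r2, hr2, e2⟩ := himg p s'
        obtain ⟨r3, hr3, e3⟩ := himg p (s + s')
        obtain ⟨r, hr, e4⟩ := F.add p s s'
        rw [map_mul, map_inv, map_mul, e1, e2, e3,
          show g p (s + s') = g p s * g p s' * r⁻¹ by rw [e4, mul_inv_cancel_right]]
        rw [show (g p s * r1 * (g p s' * r2))⁻¹ * (g p s * g p s' * r⁻¹ * r3) =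
          r2⁻¹ * ((g p s')⁻¹ * r1⁻¹ * (g p s')⁻¹⁻¹) * (r⁻¹ * r3) by group]
        exact mul_mem (mul_mem (inv_mem hr2) (conj_mem_of_normalizer (inv_mem (hN le_rfl _)) (inv_mem hr1)))
          (mul_mem (inv_mem hr) hr3)
      have addu : ∀ t u u', e t (u + u') = e t u * e t u' := by
        intro t u u'
        obtain ⟨z, hz, x, hx, ex⟩ := hgli hIM (hgadd i u u')
        refine (euniq (x := (e t u * e t u')⁻¹ * ⁅y k t, y i u * y i u' * x⁆)
          (by rw [map_mul, he, he, one_mul]) ?_ ?_).symm
        · rw [show ⁅y k t, y i u * y i u' * x⁆ = ⁅y k t, y i u⁆ * (y i u * ⁅y k t, y i u'⁆ * (y i u)⁻¹) *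
            ((y i u * y i u') * ⁅y k t, x⁆ * (y i u * y i u')⁻¹) by
              simp only [commutatorElement_def]; group, heq t u, heq t u']
          have c1 := commute_ker hk (he t u') (y i u)
          have c2 := commute_ker hk (he t u') (v t u)
          rw [show y i u * (e t u' * v t u') * (y i u)⁻¹ = e t u' * (y i u * v t u' * (y i u)⁻¹) by
            rw [← mul_assoc, c1.eq]; group]
          rw [show (e t u * e t u')⁻¹ * (e t u * v t u * (e t u' * (y i u * v t u' * (y i u)⁻¹)) *
              (y i u * y i u' * ⁅y k t, x⁆ * (y i u * y i u')⁻¹)) =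
              v t u * (y i u * v t u' * (y i u)⁻¹) * (y i u * y i u' * ⁅y k t, x⁆ * (y i u * y i u')⁻¹) by
            rw [mul_assoc (e t u) (v t u), ← mul_assoc (v t u) (e t u'), c2.eq]
            group]
          exact mul_mem (mul_mem (hv t u) (conj_mem_of_normalizer (hin u) (hv t u')))
            (conj_mem_of_normalizer (mul_mem (hin u) (hin u')) (bracket_mem_of_normalizer (hkn t) hx))
        · rw [mul_inv_cancel_left]
          refine bracket_congr hk rfl ?_
          rw [show y i (u + u') = (y i u * y i u') * ((y i u * y i u')⁻¹ * y i (u + u')) by group, ex,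
            map_mul, map_mul π z, hz, one_mul, ← map_mul]
      have addt : ∀ t t' u, e (t + t') u = e t u * e t' u := by
        intro t t' u
        obtain ⟨z, hz, x, hx, ex⟩ := dec (x := (y k t * y k t')⁻¹ * y k (t + t')) (hgadd k t t')
        refine (euniq (x := (e t u * e t' u)⁻¹ * ⁅y k t * y k t' * x, y i u⁆)
          (by rw [map_mul, he, he, one_mul]) ?_ ?_).symm
        · rw [show ⁅y k t * y k t' * x, y i u⁆ = ((y k t * y k t') * ⁅x, y i u⁆ * (y k t * y k t')⁻¹) *
            (y k t * ⁅y k t', y i u⁆ * (y k t)⁻¹) * ⁅y k t, y i u⁆ by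
              simp only [commutatorElement_def]; group, heq t u, heq t' u]
          set A := y k t * y k t' * ⁅x, y i u⁆ * (y k t * y k t')⁻¹
          have hA : A ∈ V i.val := conj_mem_of_normalizer (mul_mem (hkn t) (hkn t'))
            ((hVk x hx).2 _ ⟨u, rfl⟩)
          have c1 := commute_ker hk (he t' u) (y k t)
          rw [show y k t * (e t' u * v t' u) * (y k t)⁻¹ = e t' u * (y k t * v t' u * (y k t)⁻¹) by
            rw [← mul_assoc, c1.eq]; group]
          set B := y k t * v t' u * (y k t)⁻¹
          rw [show (e t u * e t' u)⁻¹ * (A * (e t' u * B) * (e t u * v t u)) = A * B * v t u by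
            have c2 := commute_ker hk (he t' u) A
            have c3 := commute_ker hk (he t u) (A * (e t' u * B))
            calc _ = (e t u * e t' u)⁻¹ * ((A * (e t' u * B) * e t u) * v t u) := by group
              _ = (e t u * e t' u)⁻¹ * ((e t u * (A * (e t' u * B))) * v t u) := by rw [c3.eq]
              _ = (e t u * e t' u)⁻¹ * (e t u * (A * e t' u) * B * v t u) := by group
              _ = _ := by rw [c2.eq]; group]
          exact mul_mem (mul_mem hA (conj_mem_of_normalizer (hkn t) (hv t' u))) (hv t u)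
        · rw [mul_inv_cancel_left]
          refine bracket_congr hk ?_ rfl
          rw [show y k (t + t') = (y k t * y k t') * ((y k t * y k t')⁻¹ * y k (t + t')) by group, ex,
            map_mul, map_mul π z, hz, one_mul, ← map_mul]
      have inv : ∀ p t u, e (w p k * t) (w p i * u) = e t u := by
        intro p t u
        refine (euniq (he t u) (conj_mem_of_normalizer (hVconj p i.val) (hv t u)) ?_).symm
        rw [← hy, ← hy, ← conj_bracket hk, heq, ← mul_assoc, (commute_ker hk (he t u) (a p)).eq]
        group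
      have hone : ∀ t u, e t u = 1 := by
        rcases hkill i k hik with ⟨p, hp⟩ | ⟨hike, hp⟩ | hcomm
        · intro t u
          rcases hp with ⟨hwi, hwk⟩ | ⟨hwk, hwi⟩
          · have hne : w p k - 1 ≠ 0 := sub_ne_zero.2 hwk
            have h' := inv p (t / (w p k - 1)) u
            rw [hwi, one_mul, show w p k * (t / (w p k - 1)) = t + t / (w p k - 1) by field_simp; ring,
              addt] at h'
            exact mul_eq_right.1 h'
          · have hne : w p i - 1 ≠ 0 := sub_ne_zero.2 hwi
            have h' := inv p t (u / (w p i - 1))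
            rw [hwk, one_mul, show w p i * (u / (w p i - 1)) = u + u / (w p i - 1) by field_simp; ring,
              addu] at h'
            exact mul_eq_right.1 h'
        · obtain ⟨u0, h0, h1, h3⟩ := exists_good_elt (K := K) hcard
          refine SuzukiMultiplier.alt_pairing_trivial h2 e addt addu (fun x => ?_) (fun c hc x z => ?_) h0 h1 h3
          · refine (euniq (map_one π) (one_mem _) ?_).symm
            rw [hike, commutatorElement_self, one_mul]
          · obtain ⟨p, rfl⟩ := hp c hc
            have := inv p x z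
            rwa [hike] at this
        · intro t u
          refine (euniq (x := ⁅y k t, y i u⁆) (map_one π) ?_ (one_mul _).symm).symm
          obtain ⟨r, hr, er⟩ := himg k t
          obtain ⟨r', hr', er'⟩ := himg i u
          obtain ⟨z, hz, x, hx, ex⟩ := dec (x := (l k t)⁻¹ * y k t) (by
            rw [map_mul, map_inv, hl, er, inv_mul_cancel_left]; exact hr)
          obtain ⟨z', hz', x', hx', ex'⟩ := hgli hIM (x := (l i u)⁻¹ * y i u) (by
            rw [map_mul, map_inv, hl, er', inv_mul_cancel_left]; exact hr')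
          have ek : π (y k t) = π (l k t * x) := by
            rw [show y k t = l k t * ((l k t)⁻¹ * y k t) by group, ex, map_mul, map_mul π z, hz,
              one_mul, map_mul]
          have ei : π (y i u) = π (l i u * x') := by
            rw [show y i u = l i u * ((l i u)⁻¹ * y i u) by group, ex', map_mul, map_mul π z', hz',
              one_mul, map_mul]
          have hc : ⁅l k t, l i u⁆ = 1 :=
            commutatorElement_eq_one_iff_commute.2 (hcomm t u _ _ (hl k t) (hl i u))
          have hnl : l k t ∈ Subgroup.normalizer (V i.val : Set E) := by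
            have hzn : z ∈ Subgroup.normalizer (V i.val : Set E) := by
              refine mem_normalizer_of_conj fun q hq => ?_
              rwa [← (commute_ker hk hz q).eq, mul_inv_cancel_right]
            rw [show l k t = y k t * ((l k t)⁻¹ * y k t)⁻¹ by group, ex]
            exact mul_mem (hkn t) (inv_mem (mul_mem hzn (hVk' x hx)))
          have hnl' : l i u ∈ Subgroup.normalizer (V i.val : Set E) := by
            have hzn : z' ∈ Subgroup.normalizer (V i.val : Set E) := by
              refine mem_normalizer_of_conj fun q hq => ?_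
              rwa [← (commute_ker hk hz' q).eq, mul_inv_cancel_right]
            rw [show l i u = y i u * ((l i u)⁻¹ * y i u)⁻¹ by group, ex']
            exact mul_mem (hin u) (inv_mem (mul_mem hzn (Subgroup.le_normalizer hx')))
          have hxb : ⁅x, l i u * x'⁆ ∈ V i.val := by
            rw [bracket_congr hk rfl ei.symm]; exact (hVk x hx).2 _ ⟨u, rfl⟩
          rw [bracket_congr hk ek ei, show ⁅l k t * x, l i u * x'⁆ =
            (l k t * ⁅x, l i u * x'⁆ * (l k t)⁻¹) * (⁅l k t, l i u⁆ *
              (l i u * ⁅l k t, x'⁆ * (l i u)⁻¹)) by simp only [commutatorElement_def]; group, hc, one_mul]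
          exact mul_mem (conj_mem_of_normalizer hnl hxb)
            (conj_mem_of_normalizer hnl' (bracket_mem_of_normalizer hnl hx'))
      rw [heq, hone, one_mul]
      exact hv t u
    -- the lifts are additive modulo the part below
    have hkn : ∀ t, y k t ∈ Subgroup.normalizer (V M : Set E) := fun t =>
      normalizer_Gl y (le_refl k.val) t fun i hi u => hclaim i.val i rfl (le_of_lt hi) t u
    have hkk : ∀ t u, ⁅y k t, y k u⁆ ∈ V M := fun t u => hclaim M k rfl le_rfl t u
    have hadd : ∀ s t, (y k (s + t))⁻¹ * (y k s * y k t) ∈ V M := by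
      intro s t
      have hlk : ∀ u, ∃ z, π z = 1 ∧ ∃ x ∈ V M, l k u = z * (y k u * x) := by
        intro u
        obtain ⟨r, hr, er⟩ := himg k u
        obtain ⟨z, hz, x, hx, ex⟩ := dec (x := (y k u)⁻¹ * l k u) (by
          rw [map_mul, map_inv, hl, er, mul_inv_rev, inv_mul_cancel_right]
          exact inv_mem hr)
        exact ⟨z, hz, x, hx, by rw [← mul_assoc, ← (commute_ker hk hz (y k u)).eq, mul_assoc, ← ex]; group⟩
      have hnlk : ∀ u, l k u ∈ Subgroup.normalizer (V M : Set E) := by
        intro u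
        obtain ⟨z, hz, x, hx, ex⟩ := hlk u
        rw [ex]
        refine mul_mem (mem_normalizer_of_conj fun q hq => ?_) (mul_mem (hkn u) (Subgroup.le_normalizer hx))
        rwa [← (commute_ker hk hz q).eq, mul_inv_cancel_right]
      set p := l k (s / m k) with hp
      set q := l k (t / m k) with hq
      obtain ⟨r, hr, er⟩ := F.add k (s / m k) (t / m k)
      obtain ⟨z, hz, x, hx, ex⟩ := dec (x := (p * q)⁻¹ * l k ((s + t) / m k)) (by
        rw [map_mul, map_inv, map_mul, hl, hl, hl, er, add_div, mul_inv_rev, inv_mul_cancel_right]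
        exact inv_mem hr)
      have e1 : y k (s + t) = ⁅a (i0 k), p * q * x⁆ := by
        refine bracket_congr hk rfl ?_
        rw [show l k ((s + t) / m k) = p * q * ((p * q)⁻¹ * l k ((s + t) / m k)) by group, ex,
          map_mul, map_mul π z, hz, one_mul, ← map_mul]
      have hpy : ⁅p, y k t⁆ ∈ V M := by
        obtain ⟨z', hz', x', hx', ex'⟩ := hlk (s / m k)
        rw [hp, ex', bracket_congr hk (a' := y k (s / m k) * x') (b' := y k t)
          (by rw [map_mul, hz', one_mul]) rfl]
        have : y k (s / m k) * x' ∈ brkSub (V M) {y k t} :=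
          mul_mem ⟨hkn _, by rintro _ rfl; exact hkk _ _⟩
            (mem_brkSub_of_mem hx' (by rintro _ rfl; exact hkn _))
        exact this.2 _ rfl
      have e2 : ⁅a (i0 k), p * q * x⁆ = y k s * ⁅p, y k t⁆ * y k t *
          ((p * q) * ⁅a (i0 k), x⁆ * (p * q)⁻¹) := by
        show _ = ⁅a (i0 k), p⁆ * ⁅p, ⁅a (i0 k), q⁆⁆ * ⁅a (i0 k), q⁆ * _
        simp only [commutatorElement_def]; group
      rw [e1, e2]
      set c1 := ⁅p, y k t⁆
      set c2 := p * q * ⁅a (i0 k), x⁆ * (p * q)⁻¹
      have hc2 : c2 ∈ V M := conj_mem_of_normalizer (mul_mem (hnlk _) (hnlk _))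
        (bracket_mem_of_normalizer (hVconj _ _) hx)
      rw [show (y k s * c1 * y k t * c2)⁻¹ * (y k s * y k t) =
        c2⁻¹ * ((y k t)⁻¹ * c1⁻¹ * (y k t)⁻¹⁻¹) by group]
      exact mul_mem (inv_mem hc2) (conj_mem_of_normalizer (inv_mem (hkn t)) (inv_mem hpy))
    have y0 : y k 0 ∈ V M := by simpa using hadd 0 0
    let S : Subgroup E :=
      { carrier := {x | ∃ t, ∃ v ∈ V M, x = y k t * v}
        one_mem' := ⟨0, (y k 0)⁻¹, inv_mem y0, by group⟩
        mul_mem' := by
          rintro _ _ ⟨t, v, hv, rfl⟩ ⟨t', v', hv', rfl⟩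
          refine ⟨t + t', (y k (t + t'))⁻¹ * (y k t * y k t') * ((y k t')⁻¹ * v * (y k t')⁻¹⁻¹) * v',
            mul_mem (mul_mem (hadd t t') (conj_mem_of_normalizer (inv_mem (hkn t')) hv)) hv', by group⟩
        inv_mem' := by
          rintro _ ⟨t, v, hv, rfl⟩
          have h1 : (y k 0)⁻¹ * (y k t * y k (-t)) ∈ V M := by
            have := hadd t (-t); rwa [add_neg_cancel] at this
          set c := y k t * y k (-t)
          have hc : c ∈ V M := by simpa using mul_mem y0 h1
          refine ⟨-t, c⁻¹ * ((y k t) * v⁻¹ * (y k t)⁻¹),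
            mul_mem (inv_mem hc) (conj_mem_of_normalizer (hkn t) (inv_mem hv)), ?_⟩
          simp only [c]; group }
    have hle : V (M + 1) ≤ S := by
      refine (Subgroup.closure_le _).mpr ?_
      rintro x ⟨i, hi, s, rfl⟩
      rcases Nat.lt_or_ge i.val M with h' | h'
      · exact ⟨0, (y k 0)⁻¹ * y i s, mul_mem (inv_mem y0) (mem_Gl y h' s), by group⟩
      · obtain rfl : i = k := Fin.ext (show i.val = M by omega)
        exact ⟨s, 1, one_mem _, by rw [mul_one]⟩
    refine ⟨fun e he hπ => ?_, ?_, fun i j hij hj t u => ?_⟩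
    · obtain ⟨t, v, hv, rfl⟩ := hle he
      obtain ⟨r, hr, er⟩ := himg k t
      rw [map_mul, er] at hπ
      have hv' : π v ∈ Gl g M := by rw [hgl]; exact ⟨v, hv, rfl⟩
      have ht0 : t = 0 := by
        refine F.indep k t ?_
        rw [eq_inv_of_mul_eq_one_left (show g k t * (r * π v) = 1 by rw [← mul_assoc]; exact hπ)]
        exact inv_mem (mul_mem hr hv')
      subst ht0
      exact inj _ (mul_mem y0 hv) (by rw [map_mul, er]; exact hπ)
    · refine le_antisymm ((Subgroup.closure_le _).2 ?_) ?_
      · rintro _ ⟨i, hi, s, rfl⟩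
        obtain ⟨r, hr, er⟩ := himg i s
        rw [show g i s = π (y i s) * r⁻¹ by rw [er, mul_inv_cancel_right]]
        refine mul_mem ⟨_, mem_Gl y hi s, rfl⟩ (inv_mem (Subgroup.map_mono (Gl_mono y (Nat.le_succ M)) ?_))
        rw [← hgl]; exact Gl_mono g (by omega) hr
      · rw [Subgroup.map_le_iff_le_comap]
        refine (Subgroup.closure_le _).2 ?_
        rintro _ ⟨i, hi, s, rfl⟩
        obtain ⟨r, hr, er⟩ := himg i s
        show π (y i s) ∈ Gl g (M + 1)
        rw [er]
        exact mul_mem (mem_Gl g hi s) (Gl_mono g (by omega) hr)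
    · rcases Nat.lt_or_ge j.val M with h' | h'
      · exact hpre i j hij h' t u
      · obtain rfl : j = k := Fin.ext (show j.val = M by omega)
        exact hclaim i.val i rfl hij t u

end CfsgLib.KnownA.F4Multiplier
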