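import Cfsg.Agent.Lib.Chevalley.Twist.Pair
import Mathlib.GroupTheory.PGroup
import Mathlib.GroupTheory.SpecificGroups.Cyclic

/-!
The group generated by the fixed parts of one orbit and its opposite: two cells, and its subgroups
of odd prime power order.
-/

set_option autoImplicit false
set_option linter.unusedSectionVars false

namespace CfsgLib.KnownA.F4Multiplier

open CfsgLib.Chevalley CfsgLib.Chevalley.Tbl

variable {T : Tbl} {F : Type*} [Field F] (S : Twist T F) (O : Orbits T S.valid S.ρ)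

/-- The fixed part of an orbit. -/
noncomputable def Uj (j : Fin O.o) : Subgroup (GL T.I F) :=
  S.fix ⊓ T.rootGen F (T.negSet (S.wJ O j))

/-- The fixed part of the opposite of an orbit. -/
noncomputable def Vj (j : Fin O.o) : Subgroup (GL T.I F) :=
  S.fix ⊓ T.rootGen F (fun r => ∃ h : r < T.n, r < T.half ∧ T.half ≤ (S.wJ O j ⟨r, h⟩).val)

/-- The group of an orbit. -/
noncomputable def Lj (j : Fin O.o) : Subgroup (GL T.I F) := Uj S O j ⊔ Vj S O j

/-- The torus part of the group of an orbit. -/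
noncomputable def Hj (j : Fin O.o) : Subgroup (GL T.I F) :=
  Lj S O j ⊓ T.datum.diagonalSubgroup F

variable {S O} (j : Fin O.o)

theorem Lj_le : Lj S O j ≤ S.fix := sup_le inf_le_left inf_le_left

theorem Uj_le_Lj : Uj S O j ≤ Lj S O j := le_sup_left

theorem Vj_le_Lj : Vj S O j ≤ Lj S O j := le_sup_right

theorem Uj_pos {u : GL T.I F} (hu : u ∈ Uj S O j) : u ∈ T.rootGen F (fun r => T.half ≤ r) :=
  rootGen_mono (fun _ _ ⟨_, h, _⟩ => h) hu.2

theorem Uj_borel {u : GL T.I F} (hu : u ∈ Uj S O j) : u ∈ T.datum.borelSubgroup F :=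
  Subgroup.mem_sup_left ((posUnipotent_rootGen (F := F) S.valid).symm ▸ Uj_pos j hu)

theorem Vj_neg {v : GL T.I F} (hv : v ∈ Vj S O j) : v ∈ T.rootGen F (fun r => r < T.half) :=
  rootGen_mono (fun _ _ ⟨_, h, _⟩ => h) hv.2

/-- A monomial fixed element over the longest element exchanges the two parts. -/
theorem conj_Uj {n : GL T.I F} (hn : n ∈ S.fix) (hm : T.Mono n (S.wJ O j)) {u : GL T.I F}
    (hu : u ∈ Uj S O j) : n * u * n⁻¹ ∈ Vj S O j := by
  refine Subgroup.mem_inf.2 ⟨mul_mem (mul_mem hn hu.1) (inv_mem hn), conj_mem_rootGen S.valid hm (fun r hr => ?_) hu.2⟩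
  obtain ⟨hr', h1, h2⟩ := hr
  refine ⟨(S.wJ O j r).2, h2, ?_⟩
  rw [Fin.eta, S.wJ_wJ O j r]
  exact h1

theorem conj_Vj {n : GL T.I F} (hn : n ∈ S.fix) (hm : T.Mono n (S.wJ O j)) {v : GL T.I F}
    (hv : v ∈ Vj S O j) : n * v * n⁻¹ ∈ Uj S O j := by
  refine Subgroup.mem_inf.2 ⟨mul_mem (mul_mem hn hv.1) (inv_mem hn), conj_mem_rootGen S.valid hm (fun r hr => ?_) hv.2⟩
  obtain ⟨hr', h1, h2⟩ := hr
  refine ⟨(S.wJ O j r).2, h2, ?_⟩
  rw [Fin.eta, S.wJ_wJ O j r]
  exact h1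

theorem diag_conj_Uj {h : GL T.I F} (hf : h ∈ S.fix) (hd : h ∈ T.datum.diagonalSubgroup F)
    {u : GL T.I F} (hu : u ∈ Uj S O j) : h * u * h⁻¹ ∈ Uj S O j :=
  Subgroup.mem_inf.2 ⟨mul_mem (mul_mem hf hu.1) (inv_mem hf),
    conj_mem_rootGen S.valid (mono_diag S.valid hd) (fun r hr => by simpa using hr) hu.2⟩

theorem diag_conj_Vj {h : GL T.I F} (hf : h ∈ S.fix) (hd : h ∈ T.datum.diagonalSubgroup F)
    {u : GL T.I F} (hu : u ∈ Vj S O j) : h * u * h⁻¹ ∈ Vj S O j :=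
  Subgroup.mem_inf.2 ⟨mul_mem (mul_mem hf hu.1) (inv_mem hf),
    conj_mem_rootGen S.valid (mono_diag S.valid hd) (fun r hr => by simpa using hr) hu.2⟩

theorem diag_conj_Lj {h : GL T.I F} (hf : h ∈ S.fix) (hd : h ∈ T.datum.diagonalSubgroup F)
    {g : GL T.I F} (hg : g ∈ Lj S O j) : h * g * h⁻¹ ∈ Lj S O j := by
  rw [Lj, Subgroup.sup_eq_closure] at hg
  induction hg using Subgroup.closure_induction with
  | mem x hx =>
    rcases hx with hx | hx
    · exact Uj_le_Lj j (diag_conj_Uj j hf hd hx)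
    · exact Vj_le_Lj j (diag_conj_Vj j hf hd hx)
  | one => simp
  | mul a b _ _ ha hb => simpa [mul_assoc] using mul_mem ha hb
  | inv a _ ha => simpa [mul_assoc] using inv_mem ha

theorem Hj_conj_Uj {h : GL T.I F} (hh : h ∈ Hj S O j) {u : GL T.I F} (hu : u ∈ Uj S O j) :
    h * u * h⁻¹ ∈ Uj S O j :=
  diag_conj_Uj j (Lj_le j hh.1) hh.2 hu

/-- An involution in the opposite part gives an involution over the longest element. -/
theorem exists_inv_rep {v : GL T.I F} (hv : v ∈ Vj S O j) (hv1 : v ≠ 1) (hv2 : v * v = 1) :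
    ∃ n ∈ Lj S O j, n ∈ T.datum.monomialSubgroup F ∧ T.Mono n (S.wJ O j) ∧ n * n = 1 := by
  have hT := S.valid
  obtain ⟨q, hqf, hq, n, hnf, hn, hm, u, huf, hu, e⟩ := Twist.vJ_canonical j hv.1 hv1 hv.2
  have hqU : q ∈ Uj S O j := ⟨hqf, hq⟩
  have huU : u ∈ Uj S O j := ⟨huf, hu⟩
  have hnL : n ∈ Lj S O j := by
    rw [show n = q⁻¹ * v * u⁻¹ by rw [e]; group]
    exact mul_mem (mul_mem (inv_mem (Uj_le_Lj j hqU)) (Vj_le_Lj j hv)) (inv_mem (Uj_le_Lj j huU))
  refine ⟨n, hnL, hn, hm, ?_⟩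
  have e2 : q * n * u = u⁻¹ * n⁻¹ * q⁻¹ := by
    rw [← e, show u⁻¹ * n⁻¹ * q⁻¹ = v⁻¹ by rw [e]; group]
    exact eq_inv_of_mul_eq_one_left hv2
  have hm' : T.Mono n⁻¹ (S.wJ O j) := by have := hm.inv; rwa [S.wJ_inv O j] at this
  obtain ⟨hd, -⟩ := canonical_unique hT S.comm (Uj_borel j hqU) (inv_mem (Uj_borel j huU)) hn (inv_mem hn) hm
    hu (inv_mem hq) e2
  set d := n⁻¹ * n⁻¹ with hdd
  have hdn : n * d * n⁻¹ ∈ T.datum.diagonalSubgroup F := conj_diag hT hn hd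
  obtain ⟨-, h'⟩ := canonical_unique hT S.comm (Uj_borel j hqU)
    (mul_mem (inv_mem (Uj_borel j huU)) (Subgroup.mem_sup_right hdn) :
      u⁻¹ * (n * d * n⁻¹) ∈ T.datum.borelSubgroup F) hn hn hm hu (inv_mem hq)
    (show q * n * u = u⁻¹ * (n * d * n⁻¹) * n * q⁻¹ by rw [e2, hdd]; group)
  obtain ⟨hb, -⟩ := h' hm rfl
  have hd1 : n * d * n⁻¹ = 1 := by
    rw [← Subgroup.mem_bot, ← pos_inf_diag (T := T) (F := F) hT]
    refine ⟨?_, hdn⟩
    rw [show n * d * n⁻¹ = u * q by rw [hb]; group]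
    rw [posUnipotent_rootGen hT]
    exact mul_mem (Uj_pos j huU) (Uj_pos j hqU)
  rw [conj_eq_one_iff, hdd, ← mul_inv_rev, inv_eq_one] at hd1
  exact hd1

variable {n : GL T.I F} (hnL : n ∈ Lj S O j) (hn : n ∈ T.datum.monomialSubgroup F)
  (hm : T.Mono n (S.wJ O j)) (hn2 : n * n = 1)
include hnL hn hm hn2

theorem Hj_conj_n {h : GL T.I F} (hh : h ∈ Hj S O j) : n * h * n⁻¹ ∈ Hj S O j :=
  Subgroup.mem_inf.2 ⟨mul_mem (mul_mem hnL hh.1) (inv_mem hnL), conj_diag S.valid hn hh.2⟩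

/-- The two cells. -/
theorem cells {g : GL T.I F} (hg : g ∈ Lj S O j) :
    (∃ u ∈ Uj S O j, ∃ h ∈ Hj S O j, g = u * h) ∨
      ∃ u ∈ Uj S O j, ∃ h ∈ Hj S O j, ∃ v ∈ Uj S O j, g = u * n * h * v := by
  set P : GL T.I F → Prop := fun g => (∃ u ∈ Uj S O j, ∃ h ∈ Hj S O j, g = u * h) ∨
      ∃ u ∈ Uj S O j, ∃ h ∈ Hj S O j, ∃ v ∈ Uj S O j, g = u * n * h * v with hP
  have hU : ∀ w ∈ Uj S O j, ∀ g, P g → P (w * g) := by
    rintro w hw g (⟨u, hu, h, hh, rfl⟩ | ⟨u, hu, h, hh, v, hv, rfl⟩)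
    · exact Or.inl ⟨w * u, mul_mem hw hu, h, hh, by group⟩
    · exact Or.inr ⟨w * u, mul_mem hw hu, h, hh, v, hv, by group⟩
  have hni : n⁻¹ = n := inv_eq_of_mul_eq_one_right hn2
  have hnf := Lj_le j hnL
  have hN : ∀ g, P g → P (n * g) := by
    rintro g (⟨u, hu, h, hh, rfl⟩ | ⟨u, hu, h, hh, v, hv, rfl⟩)
    · refine Or.inr ⟨1, one_mem _, h, hh, h⁻¹ * u * h⁻¹⁻¹, Hj_conj_Uj j (inv_mem hh) hu, by group⟩
    rcases eq_or_ne u 1 with rfl | hu1
    · refine Or.inl ⟨h * v * h⁻¹, Hj_conj_Uj j hh hv, h, hh, ?_⟩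
      rw [one_mul, show n * (n * h * v) = n * n * (h * v) by group, hn2]; group
    have hy := conj_Uj j hnf hm hu
    obtain ⟨q, hqf, hq, k, hkf, hk, hkm, w, hwf, hw, e⟩ :=
      Twist.vJ_canonical j hy.1 (fun h => hu1 (conj_eq_one_iff.1 h)) hy.2
    set t := n⁻¹ * k with ht
    have hkL : k ∈ Lj S O j := by
      rw [show k = q⁻¹ * (n * u * n⁻¹) * w⁻¹ by rw [e]; group]
      exact mul_mem (mul_mem (inv_mem (Uj_le_Lj j ⟨hqf, hq⟩)) (Vj_le_Lj j hy)) (inv_mem (Uj_le_Lj j ⟨hwf, hw⟩))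
    have htH : t ∈ Hj S O j := by
      refine Subgroup.mem_inf.2 ⟨mul_mem (inv_mem hnL) hkL, mem_diag_of_mono_one S.valid (mul_mem (inv_mem hn) hk) ?_⟩
      have := hm.inv.mul hkm
      rwa [inv_mul_cancel] at this
    refine Or.inr ⟨q, ⟨hqf, hq⟩, t * h, mul_mem htH hh, h⁻¹ * w * h⁻¹⁻¹ * v,
      mul_mem (Hj_conj_Uj j (inv_mem hh) ⟨hwf, hw⟩) hv, ?_⟩
    calc n * (u * n * h * v) = n * u * n⁻¹ * h * v := by rw [hni]; group
      _ = q * k * w * h * v := by rw [e]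
      _ = _ := by rw [ht]; group
  have hle : Lj S O j ≤ Subgroup.closure ((Uj S O j : Set (GL T.I F)) ∪ {n}) := by
    refine sup_le (fun x hx => Subgroup.subset_closure (Or.inl hx)) fun x hx => ?_
    rw [show x = n⁻¹ * (n * x * n⁻¹) * n by group]
    exact mul_mem (mul_mem (inv_mem (Subgroup.subset_closure (Or.inr rfl)))
      (Subgroup.subset_closure (Or.inl (conj_Vj j hnf hm hx)))) (Subgroup.subset_closure (Or.inr rfl))
  have hg' := hle hg
  clear hg
  induction hg' using Subgroup.closure_induction_left with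
  | one => exact Or.inl ⟨1, one_mem _, 1, one_mem _, by simp⟩
  | mul_left x hx y _ ih =>
    rcases hx with hx | rfl
    · exact hU x hx y ih
    · exact hN y ih
  | inv_mul_cancel x hx y _ ih =>
    rcases hx with hx | rfl
    · exact hU _ (inv_mem hx) y ih
    · rw [hni]; exact hN y ih

theorem not_borel {u h v : GL T.I F} (hu : u ∈ Uj S O j) (hh : h ∈ Hj S O j) (hv : v ∈ Uj S O j) :
    u * n * h * v ∉ T.datum.borelSubgroup F := by
  intro hb
  have hB : n ∈ T.datum.borelSubgroup F := by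
    rw [show n = u⁻¹ * (u * n * h * v) * v⁻¹ * h⁻¹ by group]
    exact mul_mem (mul_mem (mul_mem (inv_mem (Uj_borel j hu)) hb) (inv_mem (Uj_borel j hv)))
      (inv_mem (Subgroup.mem_sup_right hh.2))
  have hd := (borel_inf_monomial (T := T) (F := F) S.valid).le ⟨hB, hn⟩
  obtain ⟨i, hi⟩ := O.onto j
  have h1 : (S.wJ O j (T.simpF S.valid i)).val < T.half := O.neg j i hi
  rw [hm.unique (mono_diag S.valid hd)] at h1
  exact absurd h1 (not_lt.2 (half_le_simpF S.valid i))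

theorem borel_form {g : GL T.I F} (hg : g ∈ Lj S O j) (hb : g ∈ T.datum.borelSubgroup F) :
    ∃ u ∈ Uj S O j, ∃ h ∈ Hj S O j, g = u * h := by
  rcases cells j hnL hn hm hn2 hg with h | ⟨u, hu, h, hh, v, hv, rfl⟩
  · exact h
  · exact absurd hb (not_borel j hnL hn hm hn2 hu hh hv)

/-- The index of the Borel part. -/
theorem card_quotient [Finite F] :
    Nat.card (↥(Lj S O j) ⧸ (T.datum.borelSubgroup F).subgroupOf (Lj S O j)) =
      Nat.card (Uj S O j) + 1 := by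
  classical
  let B := (T.datum.borelSubgroup F).subgroupOf (Lj S O j)
  let f : Option (Uj S O j) → ↥(Lj S O j) ⧸ B := fun o => match o with
    | none => QuotientGroup.mk 1
    | some u => QuotientGroup.mk ⟨u.1 * n, mul_mem (Uj_le_Lj j u.2) hnL⟩
  have hnone : ∀ u : Uj S O j, f none ≠ f (some u) := fun u e => by
    have h : (1 : GL T.I F)⁻¹ * (u.1 * n) ∈ T.datum.borelSubgroup F := (QuotientGroup.eq (s := B)).1 e
    refine not_borel j hnL hn hm hn2 u.2 (one_mem _) (one_mem _) ?_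
    simpa using h
  have hf : Function.Bijective f := by
    refine ⟨fun a b e => ?_, fun x => ?_⟩
    · rcases a with - | a <;> rcases b with - | b
      · rfl
      · exact absurd e (hnone b)
      · exact absurd e.symm (hnone a)
      · have h : (a.1 * n)⁻¹ * (b.1 * n) ∈ T.datum.borelSubgroup F := (QuotientGroup.eq (s := B)).1 e
        set c : GL T.I F := (a.1 * n)⁻¹ * (b.1 * n) with hc
        obtain ⟨-, h'⟩ := canonical_unique S.valid S.comm
          (one_mem (T.datum.borelSubgroup F)) h hn hn hm (mul_mem (inv_mem a.2.2) b.2.2)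
          (one_mem (T.rootGen F (T.negSet (S.wJ O j))))
          (show 1 * n * (a.1⁻¹ * b.1) = c * n * 1 by
            rw [hc, one_mul, mul_one, show (a.1 * n)⁻¹ * (b.1 * n) * n = n⁻¹ * (a.1⁻¹ * b.1) * (n * n) by group,
              hn2, mul_one, inv_eq_of_mul_eq_one_right hn2])
        exact congrArg some (Subtype.ext (inv_mul_eq_one.1 (h' hm rfl).2))
    · induction x using QuotientGroup.induction_on with
      | _ g =>
      rcases cells j hnL hn hm hn2 g.2 with ⟨u, hu, h, hh, e⟩ | ⟨u, hu, h, hh, v, hv, e⟩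
      · refine ⟨none, QuotientGroup.eq.2 ?_⟩
        show (1 : GL T.I F)⁻¹ * g.1 ∈ T.datum.borelSubgroup F
        rw [inv_one, one_mul, e]
        exact mul_mem (Uj_borel j hu) (Subgroup.mem_sup_right hh.2)
      · refine ⟨some ⟨u, hu⟩, QuotientGroup.eq.2 ?_⟩
        show (u * n)⁻¹ * g.1 ∈ T.datum.borelSubgroup F
        rw [e, show (u * n)⁻¹ * (u * n * h * v) = h * v by group]
        exact mul_mem (Subgroup.mem_sup_right hh.2) (Uj_borel j hv)
  rw [← Nat.card_congr (Equiv.ofBijective f hf), Finite.card_option]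

/-- Subgroups of odd prime power order are cyclic once the torus part is and a representation sees them. -/
theorem isCyclic_of_pGroup [Finite F] {p : ℕ} [Fact p.Prime] (hp2 : p ≠ 2) (hU : IsPGroup 2 (Uj S O j))
    (hH : IsCyclic (Hj S O j)) (hrep : p ∣ Nat.card (Uj S O j) + 1 → ∀ P : Subgroup (GL T.I F),
      P ≤ Lj S O j → IsPGroup p P → IsCyclic P)
    (P : Subgroup (Lj S O j)) (hP : IsPGroup p P) : IsCyclic P := by
  by_cases hd : p ∣ Nat.card (Uj S O j) + 1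
  · haveI := hrep hd (P.map (Lj S O j).subtype) (Subgroup.map_subtype_le P)
      (hP.map (Lj S O j).subtype)
    exact isCyclic_of_surjective (P.equivMapOfInjective (Lj S O j).subtype Subtype.val_injective).symm
      (MulEquiv.surjective _)
  let B := (T.datum.borelSubgroup F).subgroupOf (Lj S O j)
  haveI : Finite (↥(Lj S O j) ⧸ B) := inferInstance
  obtain ⟨x, hx⟩ := hP.nonempty_fixed_point_of_prime_not_dvd_card (↥(Lj S O j) ⧸ B)
    (by rw [card_quotient j hnL hn hm hn2]; exact hd)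
  induction x using QuotientGroup.induction_on with
  | _ g =>
  have hgP : ∀ y ∈ P, g⁻¹ * y * g ∈ B := fun y hy => by
    have e : QuotientGroup.mk (y * g) = (QuotientGroup.mk g : ↥(Lj S O j) ⧸ B) := hx ⟨y, hy⟩
    have := QuotientGroup.eq.1 e.symm
    rwa [← mul_assoc] at this
  have hdec : ∀ y : P, ∃ h : Hj S O j, ∃ u ∈ Uj S O j,
      ((g⁻¹ * (y : Lj S O j) * g : Lj S O j) : GL T.I F) = u * (h : GL T.I F) := fun y => by
    obtain ⟨u, hu, h, hh, e⟩ := borel_form j hnL hn hm hn2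
      (g⁻¹ * (y : Lj S O j) * g).2 (hgP y y.2)
    exact ⟨⟨h, hh⟩, u, hu, e⟩
  choose φ u hu he using hdec
  have huniq : ∀ (y : P) (h : Hj S O j) (v : GL T.I F), v ∈ Uj S O j →
      ((g⁻¹ * (y : Lj S O j) * g : Lj S O j) : GL T.I F) = v * (h : GL T.I F) → φ y = h := fun y h v hv e => by
    have := (borel_unique S.valid S.comm (Uj_pos j (hu y)) (Uj_pos j hv) (φ y).2.2 h.2.2
      ((he y).symm.trans e)).2
    exact Subtype.ext this
  let ψ : P →* Hj S O j := MonoidHom.mk' φ fun y y' => by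
    refine huniq (y * y') (φ y * φ y')
      (u y * ((φ y : GL T.I F) * u y' * (φ y : GL T.I F)⁻¹))
      (mul_mem (hu y) (Hj_conj_Uj j (φ y).2 (hu y'))) ?_
    rw [show (g⁻¹ * ((y * y' : P) : Lj S O j) * g : Lj S O j) =
      (g⁻¹ * (y : Lj S O j) * g) * (g⁻¹ * (y' : Lj S O j) * g) by push_cast; group,
      Subgroup.coe_mul, he y, he y', Subgroup.coe_mul]
    group
  refine isCyclic_of_injective ψ ((injective_iff_map_eq_one ψ).2 fun y hy => ?_)
  have e := he y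
  rw [show φ y = 1 from hy, Subgroup.coe_one, mul_one] at e
  obtain ⟨a, ha⟩ := hP y
  obtain ⟨b, hb⟩ := hU ⟨u y, hu y⟩
  have h1 : ((g⁻¹ * (y : Lj S O j) * g) : Lj S O j) ^ p ^ a = 1 := by
    have : ((y : Lj S O j)) ^ p ^ a = 1 := congrArg Subtype.val ha
    rw [show g⁻¹ * (y : Lj S O j) * g = g⁻¹ * (y : Lj S O j) * g⁻¹⁻¹ by group, _root_.conj_pow, this]
    group
  have h2 : orderOf ((g⁻¹ * (y : Lj S O j) * g) : Lj S O j) ∣ 2 ^ b := by
    refine orderOf_dvd_of_pow_eq_one (Subtype.ext ?_)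
    rw [Subgroup.coe_pow, e]
    exact congrArg Subtype.val hb
  have h3 := Nat.eq_one_of_dvd_coprimes (((Nat.coprime_primes Fact.out Nat.prime_two).2 hp2).pow a b)
    (orderOf_dvd_of_pow_eq_one h1) h2
  rw [orderOf_eq_one_iff] at h3
  refine Subtype.ext ?_
  rw [show (y : Lj S O j) = g * (g⁻¹ * (y : Lj S O j) * g) * g⁻¹ by group, h3]
  simp

end CfsgLib.KnownA.F4Multiplier
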