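import Cfsg.Agent.Lib.KnownA.F4Multiplier.RankOne
import Cfsg.Agent.Lib.KnownA.TwistMultiplier.Lifts
import Cfsg.Agent.Lib.KnownA.D4Multiplier.Central
import Cfsg.Agent.Lib.Schur.Bound

/-!
Central extensions with kernel of odd order of a twisted group in characteristic two with two orbits:
the unique lifts of the two-elements give a section over the Bruhat cells.
-/

set_option autoImplicit false
set_option linter.unusedSectionVars false

namespace CfsgLib.KnownA.F4Multiplier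

open CfsgLib.Chevalley CfsgLib.Chevalley.Tbl
open TwistMultiplier (PExt IsP)
open scoped commutatorElement Pointwise

variable {T : Tbl} {F : Type*} [Field F] {S : Twist T F} {O : Orbits T S.valid S.ρ}

/-- The data of the extension and of the group. -/
structure Sec {E : Type*} [Group E] (π : E →* GL T.I F) (S : Twist T F) (O : Orbits T S.valid S.ρ)
    (j0 j1 : Fin O.o) (rep : Fin O.o → GL T.I F) : Prop where
  ext : PExt π 2
  range_eq : π.range = S.fix
  two : ∀ j, j = j0 ∨ j = j1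
  pos_two : IsPGroup 2 ↥(S.fix ⊓ T.rootGen F (fun r => T.half ≤ r))
  diag_odd : ¬ 2 ∣ Nat.card ↥(S.fix ⊓ T.datum.diagonalSubgroup F)
  diag_comm : ∀ a ∈ S.fix ⊓ T.datum.diagonalSubgroup F, ∀ b ∈ S.fix ⊓ T.datum.diagonalSubgroup F,
    a * b = b * a
  rep_mem : ∀ j, rep j ∈ Lj S O j
  rep_mono : ∀ j, rep j ∈ T.datum.monomialSubgroup F ∧ T.Mono (rep j) (S.wJ O j)
  rep_sq : ∀ j, rep j * rep j = 1
  dihedral : IsPGroup 2 (Subgroup.closure (Set.range rep))
  indep : Hj S O j0 ⊓ Hj S O j1 = ⊥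
  cyc : ∀ j (p : ℕ) [Fact p.Prime], p ≠ 2 → ∀ P : Subgroup (Lj S O j), IsPGroup p P → IsCyclic P
  gen : S.fix ≤ Subgroup.closure
    (((S.fix ⊓ T.rootGen F (fun r => T.half ≤ r) : Subgroup (GL T.I F)) : Set (GL T.I F)) ∪ Set.range rep)

theorem orbit_pos {w : Equiv.Perm (Fin T.n)} (hw : w ∈ S.W1) {j : Fin O.o}
    (hall : ∀ i, O.orb i = j → T.half ≤ (w (T.simpF S.valid i)).val) {r : Fin T.n}
    (hr : T.half ≤ r.val) (hrJ : (S.wJ O j r).val < T.half) : T.half ≤ (w r).val := by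
  refine half_le_of_co_nonneg S.valid (w r).2 fun c hc => ?_
  rw [WP_linear S.valid hw.1 r hc]
  refine Finset.sum_nonneg fun k _ => ?_
  by_cases hk : O.orb k = j
  · exact mul_nonneg (co_nonneg' S.valid hr k.2) (co_nonneg' S.valid (hall k hk) hc)
  · rw [O.supp j r hr hrJ k hk, zero_mul]

/-- An element of a subgroup generated by two-elements whose order is odd lies in the commutator. -/
theorem mem_commutator_of_odd {G : Type*} [Group G] {s : Set G} (hs : Subgroup.closure s = ⊤)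
    (h2 : ∀ x ∈ s, IsP 2 x) {z : G} {n : ℕ} (hn : Nat.Coprime 2 n) (hz : z ^ n = 1) : z ∈ commutator G := by
  rw [← Abelianization.ker_of, MonoidHom.mem_ker]
  have hall : ∀ x : G, IsP 2 (Abelianization.of x) := by
    intro x
    have hx : x ∈ Subgroup.closure s := hs ▸ Subgroup.mem_top x
    induction hx using Subgroup.closure_induction with
    | mem y hy =>
      obtain ⟨k, hk⟩ := h2 y hy
      exact ⟨k, by rw [← map_pow, hk, map_one]⟩
    | one => exact ⟨0, by simp⟩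
    | mul a b _ _ ha hb =>
      obtain ⟨k, hk⟩ := ha
      obtain ⟨l, hl⟩ := hb
      refine ⟨k + l, ?_⟩
      rw [map_mul, mul_pow, pow_add, pow_mul, hk, one_pow, one_mul, mul_comm (2 ^ k), pow_mul, hl, one_pow]
    | inv a _ ha => rw [map_inv]; exact ha.inv
  obtain ⟨k, hk⟩ := hall z
  rw [← orderOf_eq_one_iff]
  exact Nat.eq_one_of_dvd_coprimes (hn.pow_left k) (orderOf_dvd_of_pow_eq_one hk)
    (orderOf_dvd_of_pow_eq_one (by rw [← map_pow, hz, map_one]))

variable [Finite F] {E : Type*} [Group E] [Finite E] {π : E →* GL T.I F} {j0 j1 : Fin O.o}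
  {rep : Fin O.o → GL T.I F}

/-- The lifted group of an orbit. -/
noncomputable def Lhat (π : E →* GL T.I F) (j : Fin O.o) : Subgroup E :=
  Subgroup.closure {e | IsP 2 e ∧ (π e ∈ Uj S O j ∨ π e ∈ Vj S O j)}

variable (X : Sec π S O j0 j1 rep)
include X

theorem Sec.U_isP (j : Fin O.o) : ∀ x ∈ Uj S O j, IsP 2 x := fun x hx => by
  obtain ⟨k, hk⟩ := X.pos_two ⟨x, Subgroup.mem_inf.2 ⟨hx.1, Uj_pos j hx⟩⟩
  exact ⟨k, congrArg Subtype.val hk⟩

theorem Sec.V_isP (j : Fin O.o) : ∀ x ∈ Vj S O j, IsP 2 x := fun x hx => by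
  have h := (X.U_isP j _ (conj_Vj j (Lj_le j (X.rep_mem j)) (X.rep_mono j).2 hx)).conj (rep j)⁻¹
  simpa [mul_assoc] using h

theorem Sec.map_Lhat (j : Fin O.o) : (Lhat (S := S) π j).map π = Lj S O j := by
  refine le_antisymm ?_ (sup_le (fun x hx => ?_) fun x hx => ?_)
  · rw [Subgroup.map_le_iff_le_comap]
    exact (Subgroup.closure_le _).2 fun e ⟨_, he⟩ => he.elim (Uj_le_Lj j ·) (Vj_le_Lj j ·)
  · obtain ⟨e, he, hp⟩ := X.ext.exists_lift (X.range_eq.symm ▸ hx.1) (X.U_isP j x hx)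
    exact ⟨e, Subgroup.subset_closure ⟨hp, Or.inl (he.symm ▸ hx)⟩, he⟩
  · obtain ⟨e, he, hp⟩ := X.ext.exists_lift (X.range_eq.symm ▸ hx.1) (X.V_isP j x hx)
    exact ⟨e, Subgroup.subset_closure ⟨hp, Or.inr (he.symm ▸ hx)⟩, he⟩

theorem Sec.mem_Lj {j : Fin O.o} {e : E} (he : e ∈ Lhat (S := S) π j) : π e ∈ Lj S O j :=
  X.map_Lhat j ▸ ⟨e, he, rfl⟩

/-- The lifted group of an orbit meets the kernel trivially. -/
theorem Sec.Lhat_inj (j : Fin O.o) {e : E} (he : e ∈ Lhat (S := S) π j) (h : π e = 1) : e = 1 := by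
  haveI : Finite (Lj S O j) := inferInstance
  let L := Lhat (S := S) π j
  let f : L →* Lj S O j := (π.comp L.subtype).codRestrict _ fun x => X.mem_Lj x.2
  have hs : Function.Surjective f := fun ⟨y, hy⟩ => by
    rw [← X.map_Lhat j] at hy
    obtain ⟨x, hx, e⟩ := hy
    exact ⟨⟨x, hx⟩, Subtype.ext e⟩
  have hk : f.ker ≤ Subgroup.center L := fun x hx => Subgroup.mem_center_iff.2 fun y => Subtype.ext
    (Subgroup.mem_center_iff.1 (X.ext.ker_le (show π x.1 = 1 from congrArg Subtype.val hx)) y.1)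
  set z : L := ⟨e, he⟩
  have hz : f z = 1 := Subtype.ext h
  have hzc : z ^ Nat.card π.ker = 1 := by
    have h1 : (⟨e, h⟩ : π.ker) ^ Nat.card π.ker = 1 := pow_card_eq_one'
    exact Subtype.ext (by simpa [z] using congrArg Subtype.val h1)
  have hcomm : z ∈ commutator L := by
    refine mem_commutator_of_odd (s := {x : L | IsP 2 x}) ?_ (fun x hx => hx) X.ext.cop hzc
    rw [eq_top_iff]
    rintro ⟨x, hx⟩ -
    induction hx using Subgroup.closure_induction with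
    | mem y hy =>
      obtain ⟨k, hk⟩ := hy.1
      exact Subgroup.subset_closure ⟨k, Subtype.ext hk⟩
    | one => exact one_mem _
    | mul a b _ _ ha hb => exact mul_mem ha hb
    | inv a _ ha => exact inv_mem ha
  have hz1 : z = 1 := by
    refine CfsgLib.Schur.Bound.eq_one_of_pow_index z (Nat.card π.ker) Nat.card_pos.ne' (fun p hp hpd => ?_) hzc
    haveI := Fact.mk hp
    have hp2 : p ≠ 2 := by
      rintro rfl
      exact (Nat.prime_two.coprime_iff_not_dvd.1 X.ext.cop) hpd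
    obtain ⟨P⟩ : Nonempty (Sylow p (Lj S O j)) := inferInstance
    haveI := X.cyc j p hp2 P P.isPGroup'
    exact ⟨(P : Subgroup (Lj S O j)).index, P.not_dvd_index,
      CfsgLib.Schur.Bound.pow_index_eq_one_of_cyclic f hs hk _ hz hcomm⟩
  exact congrArg Subtype.val hz1

theorem Sec.Lhat_eq (j : Fin O.o) {a b : E} (ha : a ∈ Lhat (S := S) π j) (hb : b ∈ Lhat (S := S) π j)
    (h : π a = π b) : a = b :=
  inv_mul_eq_one.1 (X.Lhat_inj j (mul_mem (inv_mem ha) hb) (by rw [map_mul, map_inv, h, inv_mul_cancel]))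

theorem Sec.exists_rep (j : Fin O.o) : ∃ e ∈ Lhat (S := S) π j, π e = rep j := by
  have := X.rep_mem j
  rw [← X.map_Lhat j] at this
  exact this

/-- The lifted involutions. -/
noncomputable def Sec.nh (j : Fin O.o) : E := (X.exists_rep j).choose

theorem Sec.nh_mem (j : Fin O.o) : X.nh j ∈ Lhat (S := S) π j := (X.exists_rep j).choose_spec.1

theorem Sec.nh_img (j : Fin O.o) : π (X.nh j) = rep j := (X.exists_rep j).choose_spec.2

theorem Sec.nh_sq (j : Fin O.o) : X.nh j * X.nh j = 1 :=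
  X.Lhat_inj j (mul_mem (X.nh_mem j) (X.nh_mem j)) (by rw [map_mul, X.nh_img, X.rep_sq])

theorem Sec.nh_isP (j : Fin O.o) : IsP 2 (X.nh j) := ⟨1, by rw [pow_one, pow_two, X.nh_sq]⟩

/-- Elements over the torus normalise the lifted groups of the orbits. -/
theorem Sec.conj_Lhat (j : Fin O.o) {a : E} (ha : π a ∈ T.datum.diagonalSubgroup F) {e : E}
    (he : e ∈ Lhat (S := S) π j) : a * e * a⁻¹ ∈ Lhat (S := S) π j := by
  have haf : π a ∈ S.fix := X.range_eq ▸ ⟨a, rfl⟩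
  induction he using Subgroup.closure_induction with
  | mem y hy =>
    refine Subgroup.subset_closure ⟨hy.1.conj a, ?_⟩
    rw [map_mul, map_mul, map_inv]
    exact hy.2.imp (diag_conj_Uj j haf ha) (diag_conj_Vj j haf ha)
  | one => simp
  | mul p q _ _ hp hq => simpa [mul_assoc] using mul_mem hp hq
  | inv p _ hp => simpa [mul_assoc] using inv_mem hp

omit X in
/-- The lifted torus part of an orbit. -/
noncomputable def Hhat (π : E →* GL T.I F) (j : Fin O.o) : Subgroup E :=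
  Lhat (S := S) π j ⊓ (T.datum.diagonalSubgroup F).comap π

theorem Sec.H_img {j : Fin O.o} {a : E} (ha : a ∈ Hhat (S := S) π j) : π a ∈ Hj S O j :=
  Subgroup.mem_inf.2 ⟨X.mem_Lj ha.1, ha.2⟩

theorem Sec.H_diag {j : Fin O.o} {a : E} (ha : a ∈ Hhat (S := S) π j) :
    π a ∈ S.fix ⊓ T.datum.diagonalSubgroup F :=
  Subgroup.mem_inf.2 ⟨X.range_eq ▸ ⟨a, rfl⟩, ha.2⟩

theorem Sec.H_comm {i j : Fin O.o} {a b : E} (ha : a ∈ Hhat (S := S) π i) (hb : b ∈ Hhat (S := S) π j) :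
    a * b = b * a := by
  have := X.Lhat_eq j (X.conj_Lhat j ha.2 hb.1) hb.1 (by
    rw [map_mul, map_mul, map_inv, X.diag_comm _ (X.H_diag ha) _ (X.H_diag hb), mul_inv_cancel_right])
  exact mul_inv_eq_iff_eq_mul.1 this

omit X in
/-- The lifted torus. -/
noncomputable def That (π : E →* GL T.I F) (j0 j1 : Fin O.o) : Subgroup E :=
  Hhat (S := S) π j0 ⊔ Hhat (S := S) π j1

theorem Sec.That_form {t : E} (ht : t ∈ That (S := S) π j0 j1) :
    ∃ a ∈ Hhat (S := S) π j0, ∃ b ∈ Hhat (S := S) π j1, t = a * b := by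
  rw [That, Subgroup.sup_eq_closure] at ht
  induction ht using Subgroup.closure_induction with
  | mem x hx =>
    rcases hx with hx | hx
    · exact ⟨x, hx, 1, one_mem _, (mul_one x).symm⟩
    · exact ⟨1, one_mem _, x, hx, (one_mul x).symm⟩
  | one => exact ⟨1, one_mem _, 1, one_mem _, by simp⟩
  | mul p q _ _ hp hq =>
    obtain ⟨a, ha, b, hb, rfl⟩ := hp
    obtain ⟨a', ha', b', hb', rfl⟩ := hq
    refine ⟨a * a', mul_mem ha ha', b * b', mul_mem hb hb', ?_⟩
    rw [mul_assoc a b, ← mul_assoc b a' b', ← X.H_comm ha' hb]; group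
  | inv p _ hp =>
    obtain ⟨a, ha, b, hb, rfl⟩ := hp
    exact ⟨a⁻¹, inv_mem ha, b⁻¹, inv_mem hb, by
      rw [mul_inv_rev, X.H_comm (inv_mem ha) (inv_mem hb)]⟩

theorem Sec.That_diag {t : E} (ht : t ∈ That (S := S) π j0 j1) :
    π t ∈ S.fix ⊓ T.datum.diagonalSubgroup F := by
  obtain ⟨a, ha, b, hb, rfl⟩ := X.That_form ht
  rw [map_mul]; exact mul_mem (X.H_diag ha) (X.H_diag hb)

theorem Sec.That_inj {t : E} (ht : t ∈ That (S := S) π j0 j1) (h : π t = 1) : t = 1 := by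
  obtain ⟨a, ha, b, hb, rfl⟩ := X.That_form ht
  rw [map_mul] at h
  have ha1 : π a ∈ Hj S O j0 ⊓ Hj S O j1 := Subgroup.mem_inf.2 ⟨X.H_img ha, by
    rw [eq_inv_of_mul_eq_one_left h]; exact inv_mem (X.H_img hb)⟩
  rw [X.indep, Subgroup.mem_bot] at ha1
  rw [ha1, one_mul] at h
  rw [X.Lhat_inj j0 ha.1 ha1, X.Lhat_inj j1 hb.1 h, one_mul]

theorem Sec.H_le_That (j : Fin O.o) : Hhat (S := S) π j ≤ That (S := S) π j0 j1 := by
  rcases X.two j with rfl | rfl
  exacts [le_sup_left, le_sup_right]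

theorem Sec.nh_conj_That (j : Fin O.o) {t : E} (ht : t ∈ That (S := S) π j0 j1) :
    X.nh j * t * (X.nh j)⁻¹ ∈ That (S := S) π j0 j1 := by
  rw [That, Subgroup.sup_eq_closure] at ht
  induction ht using Subgroup.closure_induction with
  | mem a hx =>
    obtain ⟨i, ha⟩ : ∃ i, a ∈ Hhat (S := S) π i := hx.elim (⟨j0, ·⟩) (⟨j1, ·⟩)
    have hc : a⁻¹ * X.nh j * a * (X.nh j)⁻¹ ∈ Hhat (S := S) π j := by
      refine Subgroup.mem_inf.2 ⟨mul_mem ?_ (inv_mem (X.nh_mem j)), ?_⟩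
      · have := X.conj_Lhat j (a := a⁻¹) (by rw [map_inv]; exact inv_mem ha.2) (X.nh_mem j)
        simpa using this
      · show π (a⁻¹ * X.nh j * a * (X.nh j)⁻¹) ∈ T.datum.diagonalSubgroup F
        rw [map_mul, map_mul, map_mul, map_inv, map_inv, X.nh_img,
          show (π a)⁻¹ * rep j * π a * (rep j)⁻¹ = (π a)⁻¹ * (rep j * π a * (rep j)⁻¹) by group]
        exact mul_mem (inv_mem ha.2) (conj_diag S.valid (X.rep_mono j).1 ha.2)
    rw [show X.nh j * a * (X.nh j)⁻¹ = a * (a⁻¹ * X.nh j * a * (X.nh j)⁻¹) by group]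
    exact mul_mem (X.H_le_That i ha) (X.H_le_That j hc)
  | one => simp
  | mul p q _ _ hp hq => simpa [mul_assoc] using mul_mem hp hq
  | inv p _ hp => simpa [mul_assoc] using inv_mem hp

/-- The lifted monomial group. -/
noncomputable def Sec.Nhat : Subgroup E :=
  That (S := S) π j0 j1 ⊔ Subgroup.closure (Set.range X.nh)

theorem Sec.Nhat_form {e : E} (he : e ∈ X.Nhat) :
    ∃ t ∈ That (S := S) π j0 j1, ∃ d ∈ Subgroup.closure (Set.range X.nh), e = t * d := by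
  have hN : Subgroup.closure (Set.range X.nh) ≤
      Subgroup.normalizer ((That (S := S) π j0 j1 : Subgroup E) : Set E) := by
    refine (Subgroup.closure_le _).2 ?_
    rintro _ ⟨j, rfl⟩
    rw [SetLike.mem_coe, Subgroup.mem_normalizer_iff]
    refine fun t => ⟨X.nh_conj_That j, fun h => ?_⟩
    have := X.nh_conj_That j h
    rw [inv_eq_of_mul_eq_one_right (X.nh_sq j)] at this
    rwa [show X.nh j * (X.nh j * t * X.nh j) * X.nh j = (X.nh j * X.nh j) * t * (X.nh j * X.nh j) by group,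
      X.nh_sq, one_mul, mul_one] at this
  have h : e ∈ ((That (S := S) π j0 j1 : Subgroup E) : Set E) *
      (Subgroup.closure (Set.range X.nh) : Set E) := by
    rw [← Subgroup.coe_mul_of_right_le_normalizer_left _ _ hN]
    exact he
  obtain ⟨t, ht, d, hd, rfl⟩ := h
  exact ⟨t, ht, d, hd, rfl⟩

theorem Sec.closure_isP {d : E} (hd : d ∈ Subgroup.closure (Set.range X.nh)) :
    π d ∈ Subgroup.closure (Set.range rep) ∧ IsP 2 d := by
  obtain ⟨D, hD, hDi⟩ := X.ext.exists_subgroup X.dihedral (by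
    rw [X.range_eq, Subgroup.closure_le]
    rintro _ ⟨j, rfl⟩
    exact Lj_le j (X.rep_mem j))
  refine (hDi d).1 ((Subgroup.closure_le _).2 ?_ hd)
  rintro _ ⟨j, rfl⟩
  exact (hDi _).2 ⟨X.nh_img j ▸ Subgroup.subset_closure ⟨j, rfl⟩, X.nh_isP j⟩

theorem Sec.Nhat_inj {e : E} (he : e ∈ X.Nhat) (h : π e = 1) : e = 1 := by
  obtain ⟨t, ht, d, hd, rfl⟩ := X.Nhat_form he
  rw [map_mul] at h
  obtain ⟨hd', hdp⟩ := X.closure_isP hd
  have hdd : π d ∈ S.fix ⊓ T.datum.diagonalSubgroup F := by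
    rw [eq_inv_of_mul_eq_one_right h]; exact inv_mem (X.That_diag ht)
  obtain ⟨k, hk⟩ := X.dihedral ⟨π d, hd'⟩
  have h1 : orderOf (π d) ∣ Nat.card ↥(S.fix ⊓ T.datum.diagonalSubgroup F) := by
    have := orderOf_dvd_natCard (⟨π d, hdd⟩ : ↥(S.fix ⊓ T.datum.diagonalSubgroup F))
    rwa [← Subgroup.orderOf_coe] at this
  have hk' : π d ^ 2 ^ k = 1 := congrArg Subtype.val hk
  have h2 : π d = 1 := orderOf_eq_one_iff.1 (Nat.eq_one_of_dvd_coprimes
    (((Nat.prime_two.coprime_iff_not_dvd).2 X.diag_odd).pow_left k) (orderOf_dvd_of_pow_eq_one hk') h1)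
  rw [h2, mul_one] at h
  rw [X.That_inj ht h, X.ext.eq_one h2 hdp, one_mul]

theorem Sec.Nhat_over {e : E} (he : e ∈ X.Nhat) :
    π e ∈ T.datum.monomialSubgroup F ∧ ∃ w ∈ S.W1, T.Mono (π e) w := by
  have hn : π e ∈ T.datum.monomialSubgroup F := by
    have hle : X.Nhat ≤ (T.datum.monomialSubgroup F).comap π := by
      refine sup_le (fun t ht => diag_le_N S.valid (X.That_diag ht).2) ((Subgroup.closure_le _).2 ?_)
      rintro _ ⟨j, rfl⟩
      show π (X.nh j) ∈ T.datum.monomialSubgroup F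
      rw [X.nh_img]; exact (X.rep_mono j).1
    exact hle he
  obtain ⟨w, -, hw⟩ := exists_mono S.valid hn
  exact ⟨hn, w, Twist.perm_mem_W1 S hn (X.range_eq ▸ ⟨e, rfl⟩) hw, hw⟩

theorem Sec.exists_Uhat : ∃ U : Subgroup E, U.map π = S.fix ⊓ T.rootGen F (fun r => T.half ≤ r) ∧
    ∀ e, e ∈ U ↔ π e ∈ S.fix ⊓ T.rootGen F (fun r => T.half ≤ r) ∧ IsP 2 e :=
  X.ext.exists_subgroup X.pos_two (X.range_eq.symm ▸ inf_le_left)

/-- The lift of the positive part. -/
noncomputable def Sec.Uhat : Subgroup E := X.exists_Uhat.choose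

theorem Sec.mem_Uhat {e : E} :
    e ∈ X.Uhat ↔ π e ∈ T.rootGen F (fun r => T.half ≤ r) ∧ IsP 2 e := by
  refine (X.exists_Uhat.choose_spec.2 e).trans ⟨fun h => ⟨h.1.2, h.2⟩, fun h => ⟨?_, h.2⟩⟩
  exact Subgroup.mem_inf.2 ⟨X.range_eq ▸ ⟨e, rfl⟩, h.1⟩

/-- The union of the cells. -/
def Sec.cells : Set E := {e | ∃ u ∈ X.Uhat, ∃ n ∈ X.Nhat, ∃ u' ∈ X.Uhat, e = u * n * u'}

theorem Sec.cells_U {u e : E} (hu : u ∈ X.Uhat) (he : e ∈ X.cells) : u * e ∈ X.cells := by
  obtain ⟨a, ha, n, hn, b, hb, rfl⟩ := he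
  exact ⟨u * a, mul_mem hu ha, n, hn, b, hb, by group⟩

theorem Sec.nh_mem_Nhat (j : Fin O.o) : X.nh j ∈ X.Nhat :=
  Subgroup.mem_sup_right (Subgroup.subset_closure ⟨j, rfl⟩)

theorem Sec.cells_n (j : Fin O.o) {e : E} (he : e ∈ X.cells) : X.nh j * e ∈ X.cells := by
  obtain ⟨u, hu, n, hn, u', hu', rfl⟩ := he
  have hT := S.valid
  obtain ⟨hu1, hu2⟩ := X.mem_Uhat.1 hu
  obtain ⟨hnm, hmj⟩ := X.rep_mono j
  obtain ⟨a, haf, ha, b, hbf, hb, hab⟩ := Twist.pos_fix_factor (S.wJ_mem O j) hmj hu1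
    (X.range_eq ▸ ⟨u, rfl⟩)
  have hbU : b ∈ Uj S O j := Subgroup.mem_inf.2 ⟨hbf, hb⟩
  obtain ⟨x, hx, hxp⟩ := X.ext.exists_lift (X.range_eq.symm ▸ hbf) (X.U_isP j b hbU)
  have hxL : x ∈ Lhat (S := S) π j := Subgroup.subset_closure ⟨hxp, Or.inl (hx.symm ▸ hbU)⟩
  have hxU : x ∈ X.Uhat := X.mem_Uhat.2 ⟨hx.symm ▸ Uj_pos j hbU, hxp⟩
  set u1 := u * x⁻¹ with hu1def
  have hu1m : u1 ∈ X.Uhat := mul_mem hu (inv_mem hxU)
  have hu1img : π u1 = a := by
    rw [hu1def, map_mul, map_inv, hx, hab, mul_inv_cancel_right]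
  have hv : X.nh j * u1 * (X.nh j)⁻¹ ∈ X.Uhat := by
    refine X.mem_Uhat.2 ⟨?_, (X.mem_Uhat.1 hu1m).2.conj _⟩
    rw [map_mul, map_mul, map_inv, X.nh_img, hu1img]
    exact conj_mem_rootGen hT hmj (fun r ⟨_, _, h⟩ => h) ha
  suffices h : X.nh j * x * n * u' ∈ X.cells by
    have := X.cells_U hv h
    rwa [show X.nh j * u1 * (X.nh j)⁻¹ * (X.nh j * x * n * u') = X.nh j * (u * n * u') by
      rw [hu1def]; group] at this
  obtain ⟨hnM, w, hwW, hon⟩ := X.Nhat_over hn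
  have hwi : w⁻¹ ∈ S.W1 := inv_mem hwW
  by_cases hall : ∀ i, O.orb i = j → T.half ≤ (w⁻¹ (T.simpF hT i)).val
  · refine ⟨1, one_mem _, X.nh j * n, mul_mem (X.nh_mem_Nhat j) hn, n⁻¹ * x * n * u',
      mul_mem (X.mem_Uhat.2 ⟨?_, ?_⟩) hu', by group⟩
    · rw [map_mul, map_mul, hx, map_inv]
      have := conj_mem_rootGen hT hon.inv (Q := fun r => T.half ≤ r)
        (fun r ⟨_, h, h'⟩ => orbit_pos hwi hall h h') hb
      simpa using this
    · have := hxp.conj n⁻¹
      rwa [inv_inv] at this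
  · push Not at hall
    obtain ⟨i, hij, hneg⟩ := hall
    rcases eq_or_ne b 1 with rfl | hb1
    · rw [X.ext.eq_one hx hxp, mul_one]
      exact ⟨1, one_mem _, X.nh j * n, mul_mem (X.nh_mem_Nhat j) hn, u', hu', by group⟩
    have hy := conj_Uj j (Lj_le j (X.rep_mem j)) hmj hbU
    obtain ⟨q, hqf, hq, k, hkf, hk, hkm, v, hvf, hv', e⟩ :=
      Twist.vJ_canonical j hy.1 (fun h => hb1 (conj_eq_one_iff.1 h)) hy.2
    have hqU : q ∈ Uj S O j := Subgroup.mem_inf.2 ⟨hqf, hq⟩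
    have hvU : v ∈ Uj S O j := Subgroup.mem_inf.2 ⟨hvf, hv'⟩
    obtain ⟨qh, hqh, hqp⟩ := X.ext.exists_lift (X.range_eq.symm ▸ hqf) (X.U_isP j q hqU)
    obtain ⟨vh, hvh, hvp⟩ := X.ext.exists_lift (X.range_eq.symm ▸ hvf) (X.U_isP j v hvU)
    have hqL : qh ∈ Lhat (S := S) π j := Subgroup.subset_closure ⟨hqp, Or.inl (hqh.symm ▸ hqU)⟩
    have hvL : vh ∈ Lhat (S := S) π j := Subgroup.subset_closure ⟨hvp, Or.inl (hvh.symm ▸ hvU)⟩
    set kh := qh⁻¹ * (X.nh j * x * (X.nh j)⁻¹) * vh⁻¹ with hkh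
    have hkL : kh ∈ Lhat (S := S) π j :=
      mul_mem (mul_mem (inv_mem hqL) (mul_mem (mul_mem (X.nh_mem j) hxL) (inv_mem (X.nh_mem j)))) (inv_mem hvL)
    have hkimg : π kh = k := by
      rw [hkh, map_mul, map_mul, map_mul, map_mul, map_inv, map_inv, map_inv, X.nh_img, hqh, hx, hvh, e]
      group
    have hkN : kh ∈ X.Nhat := by
      rw [show kh = X.nh j * ((X.nh j)⁻¹ * kh) by group]
      refine mul_mem (X.nh_mem_Nhat j) (Subgroup.mem_sup_left (X.H_le_That j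
        (Subgroup.mem_inf.2 ⟨mul_mem (inv_mem (X.nh_mem j)) hkL, ?_⟩)))
      show π ((X.nh j)⁻¹ * kh) ∈ T.datum.diagonalSubgroup F
      rw [map_mul, map_inv, X.nh_img, hkimg]
      refine mem_diag_of_mono_one hT (mul_mem (inv_mem hnm) hk) ?_
      have := hmj.inv.mul hkm
      rwa [inv_mul_cancel] at this
    set z := (X.nh j * n)⁻¹ * vh * (X.nh j * n) with hz
    have hzm : z ∈ X.Uhat := by
      refine X.mem_Uhat.2 ⟨?_, ?_⟩
      · rw [hz, map_mul, map_mul, map_inv, hvh]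
        have hm2 : T.Mono (π (X.nh j * n)) (S.wJ O j * w) := by
          rw [map_mul, X.nh_img]; exact hmj.mul hon
        have := conj_mem_rootGen hT hm2.inv (Q := fun r => T.half ≤ r) (fun r hr => ?_) hv'
        · simpa using this
        · obtain ⟨hr, h, h'⟩ := hr
          show T.half ≤ ((S.wJ O j * w)⁻¹ r).val
          rw [mul_inv_rev, Equiv.Perm.mul_apply, S.wJ_inv O j]
          have h2 : (S.wJ O j (T.negF (S.wJ O j r))).val < T.half := by
            rw [WP_negF hT (S.wJ_mem O j).1, S.wJ_wJ O j]; exact negF_lt h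
          have h3 := S.negSet_of_neg O hwi hij hneg (le_negF h') h2
          rw [WP_negF hT hwi.1] at h3
          by_contra h4
          exact absurd h3 (not_lt.mpr (le_negF (not_le.mp h4)))
      · have := hvp.conj (X.nh j * n)⁻¹
        rwa [inv_inv] at this
    refine ⟨qh, X.mem_Uhat.2 ⟨hqh.symm ▸ Uj_pos j hqU, hqp⟩, kh * (X.nh j * n),
      mul_mem hkN (mul_mem (X.nh_mem_Nhat j) hn), z * u', mul_mem hzm hu', ?_⟩
    rw [hkh, hz]; group

/-- The section. -/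
noncomputable def Sec.E0 : Subgroup E := Subgroup.closure ((X.Uhat : Set E) ∪ Set.range X.nh)

theorem Sec.E0_le_cells {e : E} (he : e ∈ X.E0) : e ∈ X.cells := by
  induction he using Subgroup.closure_induction_left with
  | one => exact ⟨1, one_mem _, 1, one_mem _, 1, one_mem _, by simp⟩
  | mul_left g hg e _ ih =>
    rcases hg with hg | ⟨j, rfl⟩
    · exact X.cells_U hg ih
    · exact X.cells_n j ih
  | inv_mul_cancel g hg e _ ih =>
    rcases hg with hg | ⟨j, rfl⟩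
    · exact X.cells_U (inv_mem hg) ih
    · rw [inv_eq_of_mul_eq_one_right (X.nh_sq j)]
      exact X.cells_n j ih

theorem Sec.E0_inj {z : E} (h0 : z ∈ X.E0) (hz : π z = 1) : z = 1 := by
  obtain ⟨u, hu, n, hn, u', hu', rfl⟩ := X.E0_le_cells h0
  have hT := S.valid
  rw [map_mul, map_mul] at hz
  have hn1 : π n = 1 := by
    have e : π n = (π u)⁻¹ * (π u')⁻¹ := by
      rw [show π n = (π u)⁻¹ * (π u * π n * π u') * (π u')⁻¹ by group, hz, mul_one]
    have hU : π n ∈ T.datum.posUnipotent F := by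
      rw [posUnipotent_rootGen hT, e]
      exact mul_mem (inv_mem (X.mem_Uhat.1 hu).1) (inv_mem (X.mem_Uhat.1 hu').1)
    have hdiag := (borel_inf_monomial (T := T) (F := F) hT).le
      (Subgroup.mem_inf.mpr ⟨Subgroup.mem_sup_left hU, (X.Nhat_over hn).1⟩)
    rw [← Subgroup.mem_bot, ← pos_inf_diag (T := T) (F := F) hT]
    exact ⟨hU, hdiag⟩
  rw [X.Nhat_inj hn hn1, mul_one]
  rw [hn1, mul_one] at hz
  exact X.ext.eq_one (by rw [map_mul, hz]) (X.mem_Uhat.1 (mul_mem hu hu')).2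

/-- The kernel meets the commutators trivially. -/
theorem Sec.ker_inf_commutator : π.ker ⊓ commutator E = ⊥ := by
  have honto : ∀ a : E, ∃ a' ∈ X.E0, π a' = π a := by
    intro a
    have hle : S.fix ≤ X.E0.map π := by
      refine X.gen.trans ((Subgroup.closure_le _).2 ?_)
      rintro x (hx | ⟨j, rfl⟩)
      · rw [← X.exists_Uhat.choose_spec.1] at hx
        exact Subgroup.map_mono (fun e he => Subgroup.subset_closure (Or.inl he)) hx
      · exact ⟨X.nh j, Subgroup.subset_closure (Or.inr ⟨j, rfl⟩), X.nh_img j⟩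
    obtain ⟨a', ha', e⟩ := hle (X.range_eq ▸ ⟨a, rfl⟩ : π a ∈ S.fix)
    exact ⟨a', ha', e⟩
  have hcomm : commutator E ≤ X.E0 := by
    rw [_root_.commutator_def, Subgroup.commutator_le]
    intro a _ b _
    obtain ⟨a', ha', ea⟩ := honto a
    obtain ⟨b', hb', eb⟩ := honto b
    rw [D4Multiplier.bracket_congr X.ext.ker_le ea.symm eb.symm, commutatorElement_def]
    exact mul_mem (mul_mem (mul_mem ha' hb') (inv_mem ha')) (inv_mem hb')
  rw [eq_bot_iff]
  rintro z ⟨hz, hc⟩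
  exact X.E0_inj (hcomm hc) hz

end CfsgLib.KnownA.F4Multiplier
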